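import Cfsg.Agent.FixBN.ThreeD4Split

/-!
# The long root elements of `³D₄(2)` (helper826)
-/

set_option autoImplicit false

namespace Cfsg.Agent.H826.AASmall.DRel

open Cfsg.Lie
open Cfsg.Agent.Schreier.ThreeD4
open Cfsg.Agent.ChevalleyStructure.D4Fixed (sig coe_sig fix mem_fix twisted_le_fix twisted_induction)
open Cfsg.Agent.ChevalleyStructure
open Cfsg.Agent.ChevalleyStructure.WordCheck
open Cfsg.Agent.ChevalleyStructure.D4Comm
open Cfsg.Agent.ChevalleyStructure.D4CommTab
open Cfsg.Agent.ChevalleyStructure.D4NCheck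
open Cfsg.Agent.ChevalleyStructure.D4NConj (nR nR_def nG nG_conj nG_def eta_cases)
open Cfsg.Agent.ChevalleyStructure.D4U
open Cfsg.Agent.ChevalleyStructure.D4RGD
open Cfsg.Agent.ChevalleyStructure.D4Twisted
open scoped commutatorElement

variable {F : Type*} [Field F]

/-- the commutator formula for an arbitrary pair passing the check -/
theorem comm_of_ok {r s : ℕ} (h0 : commOK r s = true) (t u : F) :
    ⁅(xG r t : GL chevD4.Idx F), xG s u⁆ = cval r s t u := by
  have h := wordMat_eq_of_check chevD4 (fun i => if i = 0 then t else u) 0 0 2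
    [(r, .var 0), (s, .var 1), (r, .neg (.var 0)), (s, .neg (.var 1))] (cw r s) h0 (by simp) (by simp)
  apply Units.ext
  rw [commutatorElement_def, ← xG_neg, ← xG_neg]
  have h1 : chevD4.wordMat F (wval (fun i => if i = 0 then t else u)
      [(r, .var 0), (s, .var 1), (r, .neg (.var 0)), (s, .neg (.var 1))]) =
      ((xG r t * xG s u * xG r (-t) * xG s (-u) : GL chevD4.Idx F) : Matrix chevD4.Idx chevD4.Idx F) := by
    simp [ChevalleyDatum.wordMat, wval, PExpr.denote, coe_xG, mul_assoc]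
  rw [← h1, h]
  unfold cw cval
  rcases cm r s with _ | kc
  · simp [ChevalleyDatum.wordMat, wval]
  · simp [ChevalleyDatum.wordMat, wval, PExpr.denote, coe_xG]

/-- the result of the commutator formula, up to sign -/
def res (r s : ℕ) : Option (ℕ × ℕ) := (cm r s).map fun p => (p.1, p.2.natAbs)

theorem ok_all : (commOK 14 22 = true ∧ commOK 9 22 = true ∧ commOK 23 1 = true ∧ commOK 23 9 = true) ∧
    commOK 14 0 = true ∧ commOK 9 1 = true ∧ commOK 22 0 = true := by decide +kernel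

theorem res_all : (res 14 22 = some (23, 1) ∧ res 9 22 = none ∧ res 23 1 = some (14, 1) ∧ res 23 9 = some (22, 1)) ∧
    res 14 0 = some (1, 1) ∧ res 9 1 = some (0, 1) ∧ res 22 0 = some (9, 1) := by decide +kernel

theorem neg_one (h2 : (2 : F) = 0) : (-1 : F) = 1 := by
  rw [neg_eq_iff_add_eq_zero, one_add_one_eq_two, h2]

theorem cval_of_res (h2 : (2 : F) = 0) {r s k : ℕ} (h : res r s = some (k, 1)) : cval r s (1 : F) 1 = xG k 1 := by
  unfold res at h
  unfold cval
  rcases hc : cm r s with _ | ⟨k', c⟩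
  · rw [hc] at h; simp at h
  · rw [hc] at h
    simp only [Option.map_some, Option.some.injEq, Prod.mk.injEq] at h
    obtain ⟨rfl, hc1⟩ := h
    have h3 : ((c : ℤ) : F) = 1 := by
      rcases Int.natAbs_eq c with h4 | h4
      · rw [h4, hc1]; simp
      · rw [h4, hc1]; simp [neg_one h2]
    simp only [h3, one_mul]

theorem cval_of_none {r s : ℕ} (h : res r s = none) : cval r s (1 : F) 1 = 1 := by
  unfold res at h
  unfold cval
  rcases hc : cm r s with _ | ⟨k', c⟩
  · rfl
  · rw [hc] at h; simp at h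

theorem comm_one (h2 : (2 : F) = 0) {r s k : ℕ} (h : commOK r s = true) (h' : res r s = some (k, 1)) :
    ⁅(xG r (1 : F) : GL chevD4.Idx F), (xG s (1 : F) : GL chevD4.Idx F)⁆ = xG k (1 : F) := by
  rw [comm_of_ok h, cval_of_res h2 h']

theorem sq_one (h2 : (2 : F) = 0) (r : ℕ) : (xG r 1 : GL chevD4.Idx F) * xG r 1 = 1 := by
  rw [← xG_add, one_add_one_eq_two, h2, xG_zero]

theorem eta_one (h2 : (2 : F) = 0) {i s : ℕ} (hi : i < 4) (hs : s < 24) : (eta i s : F) * 1 = 1 := by
  rcases eta_cases hi hs with h | h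
  · rw [h]; simp
  · rw [h]; simp [neg_one h2]

/-- `n_a x_a n_a⁻¹ = x_{-a}` -/
theorem na_conj (h2 : (2 : F) = 0) : na F * xG 14 1 * (na F)⁻¹ = xG 9 1 := by
  have h := nG_conj (F := F) (i := 1) (s := 14) (by norm_num) (by norm_num) 1
  have h1 : rfl' 1 14 = 9 := by decide +kernel
  rw [h1, eta_one h2 (by norm_num) (by norm_num)] at h
  exact h

/-- `n_b x_a n_b⁻¹ = x_c` -/
theorem nb_conj (h2 : (2 : F) = 0) {s k : ℕ} (hs : s < 24) (h0 : rfl' 3 s < 24) (h1 : rfl' 2 (rfl' 3 s) < 24)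
    (hk : rfl' 0 (rfl' 2 (rfl' 3 s)) = k) : nb F * xG s 1 * (nb F)⁻¹ = xG k 1 := by
  have a1 := nG_conj (F := F) (i := 3) (s := s) (by norm_num) hs 1
  have a2 := nG_conj (F := F) (i := 2) (s := rfl' 3 s) (by norm_num) h0 1
  have a3 := nG_conj (F := F) (i := 0) (s := rfl' 2 (rfl' 3 s)) (by norm_num) h1 1
  rw [eta_one h2 (by norm_num) (by assumption)] at a1 a2 a3
  rw [hk] at a3
  have e : nb F * xG s 1 * (nb F)⁻¹ = nG F 0 * (nG F 2 * (nG F 3 * xG s 1 * (nG F 3)⁻¹) * (nG F 2)⁻¹) * (nG F 0)⁻¹ := by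
    unfold nb; group
  rw [e, a1, a2, a3]

theorem nb_conj_14 (h2 : (2 : F) = 0) : nb F * xG 14 1 * (nb F)⁻¹ = xG 22 1 :=
  nb_conj h2 (by norm_num) (by decide +kernel) (by decide +kernel) (by decide +kernel)

theorem nb_conj_9 (h2 : (2 : F) = 0) : nb F * xG 9 1 * (nb F)⁻¹ = xG 1 1 :=
  nb_conj h2 (by norm_num) (by decide +kernel) (by decide +kernel) (by decide +kernel)

/-- `(x_a x_{-a})³ = 1` -/
theorem cube (h2 : (2 : F) = 0) : ((xG 14 1 : GL chevD4.Idx F) * xG 9 1) ^ 3 = 1 := by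
  have h1 : na F = xG 14 1 * (xG 9 1 * xG 14 1) := by
    have h3 : na F = nR (sp 1) 1 := rfl
    have h4 : sp 1 = 14 := by decide +kernel
    rw [h3, h4, nR_def, inv_one, neg_one h2]
  have h3 := na_conj h2
  rw [h1] at h3
  have ha : (xG 14 1 : GL chevD4.Idx F)⁻¹ = xG 14 1 := inv_eq_of_mul_eq_one_left (sq_one h2 14)
  have hb : (xG 9 1 : GL chevD4.Idx F)⁻¹ = xG 9 1 := inv_eq_of_mul_eq_one_left (sq_one h2 9)
  have sa := sq_one h2 (F := F) 14
  have sb := sq_one h2 (F := F) 9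
  generalize (xG 14 1 : GL chevD4.Idx F) = a at *
  generalize (xG 9 1 : GL chevD4.Idx F) = b at *
  -- `a b a · a · (a b a)⁻¹ = b`
  have h4 : a * b * a * b * a = b := by
    rw [mul_inv_rev, mul_inv_rev, ha, hb] at h3
    calc a * b * a * b * a = a * b * 1 * a * b * a := by rw [mul_one]
      _ = a * (b * a) * a * (a * b * a) := by rw [← sa]; group
      _ = b := h3
  calc (a * b) ^ 3 = (a * b * a * b * a) * b := by simp only [pow_succ, pow_zero, one_mul, mul_assoc]
    _ = 1 := by rw [h4, sb]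

end Cfsg.Agent.H826.AASmall.DRel
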