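import Cfsg.Agent.H826.AASmall.DAbs
import Cfsg.Agent.H826.AASmall.DRel
import Cfsg.Agent.S1067
import Cfsg.Agent.S1106
import Cfsg.Agent.S0316

/-!
# `³D₄(2)` (helper826)
-/

set_option autoImplicit false

namespace Cfsg.Agent.H826.AASmall

open Cfsg.Lie Cfsg.Agent.H459.Rad Cfsg.Agent.H460.AA
open Cfsg.Agent.Schreier.ThreeD4 Cfsg.Agent.Schreier.BNSch
open Cfsg.Agent.ChevalleyStructure.D4Fixed (fix mem_fix twisted_le_fix)
open Cfsg.Agent.ChevalleyStructure
open Cfsg.Agent.ChevalleyStructure.D4Comm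
open Cfsg.Agent.ChevalleyStructure.D4NConj (hR)
open Cfsg.Agent.ChevalleyStructure.D4U
open Cfsg.Agent.ChevalleyStructure.D4RGD
open Cfsg.Agent.ChevalleyStructure.D4Twisted
open Cfsg.Agent.ChevalleyStructure.TwistedU
open scoped commutatorElement Pointwise

section Inst

variable {F : Type*} [Field F] [Fintype F] (hF : Fintype.card F = 8)

/-- the facts on `³D₄(2)` -/
structure Facts (F : Type*) [Field F] : Prop where
  main : ∃ (P : Cfsg.BNPair ↥(twistedD4 F 2)) (U : Sylow 2 ↥(twistedD4 F 2)) (T : Subgroup ↥(twistedD4 F 2))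
    (a b c d e f : ↥(twistedD4 F 2)), Subgroup.normalizer ((U : Subgroup ↥(twistedD4 F 2)) : Set ↥(twistedD4 F 2)) = P.B ∧
      Nat.card P.B = 4096 * 7 ∧ T ≤ P.B ∧ Nat.card T = 7 ∧ Subgroup.centralizer (T : Set ↥(twistedD4 F 2)) ≠ ⊤ ∧
      Six T a b c d e f ∧ ∀ H : Subgroup ↥(twistedD4 F 2), P.B ≤ H → P.B.relIndex H = 3 → a ∈ H ∧ b ∈ H

include hF in
theorem two_eq8 : (2 : F) = 0 := by
  have h1 : (Fintype.card F : F) = 0 := FiniteField.cast_card_eq_zero F
  rw [hF] at h1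
  have h3 : (2 : F) * (2 * 2) = 0 := by
    have : ((8 : ℕ) : F) = 2 * (2 * 2) := by norm_num
    rw [← this]; exact h1
  rcases mul_eq_zero.1 h3 with h | h
  · exact h
  · rcases mul_eq_zero.1 h with h | h <;> exact h

include hF in
theorem facts : Facts F := by
  have h2 := two_eq8 hF
  have hK : Fintype.card F = 2 ^ 3 := by rw [hF]; norm_num
  have hq : IsPrimePow 2 := Nat.prime_two.isPrimePow
  obtain ⟨φ, hφ⟩ := D4Fixed.exists_frob hq hK
  have hle := twisted_le_fix hK hφ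
  obtain ⟨P, hPB, hPN, hPS⟩ := exists_bnPair_aux hφ hle
  let G := ↥(twistedD4 F 2)
  let U : Subgroup ↥(twistedD4 F 2) := (chevD4.posUnipotent F).subgroupOf (twistedD4 F 2)
  let T : Subgroup ↥(twistedD4 F 2) := (chevD4.diagonalSubgroup F).subgroupOf (twistedD4 F 2)
  have memB : ∀ g : ↥(twistedD4 F 2), g ∈ P.B ↔ (g : GL chevD4.Idx F) ∈ chevD4.borelSubgroup F := by
    intro g
    rw [hPB, Subgroup.mem_subgroupOf, Subgroup.mem_inf]
    exact ⟨fun h => h.1, fun h => ⟨h, g.2⟩⟩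
  have memN : ∀ g : ↥(twistedD4 F 2), g ∈ P.N ↔ (g : GL chevD4.Idx F) ∈ chevD4.monomialSubgroup F := by
    intro g
    rw [hPN, Subgroup.mem_subgroupOf, Subgroup.mem_inf]
    exact ⟨fun h => h.1, fun h => ⟨h, g.2⟩⟩
  have hBUH : ∀ b ∈ P.B, ∃ u ∈ U, ∃ h ∈ T, b = u * h := by
    intro b hb
    obtain ⟨u, hu, huG, h, hh, hhG, e⟩ := ((tdata hφ hle).mem_B_iff (b : GL chevD4.Idx F) b.2).1 ((memB b).1 hb)
    exact ⟨⟨u, huG⟩, hu, ⟨h, hhG⟩, hh, Subtype.ext e⟩
  have hUB : U ≤ P.B := fun u hu => (memB u).2 (Subgroup.mem_sup_left hu)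
  have hTB : T ≤ P.B := fun h hh => (memB h).2 (Subgroup.mem_sup_right hh)
  have hTU : ∀ h ∈ T, ∀ u ∈ U, h * u * h⁻¹ ∈ U := fun h hh u hu => (tdata hφ hle).conj_H_U h hh u hu
  have hBU : ∀ b ∈ P.B, ∀ u ∈ U, b * u * b⁻¹ ∈ U := by
    intro b hb u hu
    obtain ⟨v, hv, h, hh, rfl⟩ := hBUH b hb
    have e : v * h * u * (v * h)⁻¹ = v * (h * u * h⁻¹) * v⁻¹ := by group
    rw [e]
    exact mul_mem (mul_mem hv (hTU h hh u hu)) (inv_mem hv)
  have hfix : ∀ g : ↥(twistedD4 F 2), (g : GL chevD4.Idx F) ∈ fix φ := fun g => hle g.2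
  have h1φ : φ 1 = 1 := map_one φ
  -- the elements
  obtain ⟨a, ha⟩ : ∃ a : ↥(twistedD4 F 2), (a : GL chevD4.Idx F) = xG 14 (1 : F) := ⟨⟨xG 14 1, xG14_mem hφ h1φ⟩, rfl⟩
  have haU : a ∈ U := by
    rw [Subgroup.mem_subgroupOf, ha]
    exact (RS14_le_U (mem_rspan xG (S := {k | k ∈ [14]}) (by simp) 1))
  obtain ⟨na', hna', hna''⟩ : ∃ n : ↥(twistedD4 F 2), (n : GL chevD4.Idx F) = na F ∧ n = nA hφ := ⟨nA hφ, rfl, rfl⟩
  obtain ⟨nb', hnb', hnb''⟩ : ∃ n : ↥(twistedD4 F 2), (n : GL chevD4.Idx F) = nb F ∧ n = nB hφ := ⟨nB hφ, rfl, rfl⟩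
  have hnb : nb' ∈ P.N := P.subset (by rw [hPS, hnb'']; exact Or.inr rfl)
  have hna : na' ∈ P.N := P.subset (by rw [hPS, hna'']; exact Or.inl rfl)
  obtain ⟨b, hb0⟩ : ∃ b : ↥(twistedD4 F 2), b = na' * a * na'⁻¹ := ⟨_, rfl⟩
  have hb : (b : GL chevD4.Idx F) = xG 9 (1 : F) := by
    rw [hb0, Subgroup.coe_mul, Subgroup.coe_mul, Subgroup.coe_inv, hna', ha]; exact DRel.na_conj h2
  obtain ⟨c, hc0⟩ : ∃ b : ↥(twistedD4 F 2), b = nb' * a * nb'⁻¹ := ⟨_, rfl⟩
  have hc : (c : GL chevD4.Idx F) = xG 22 (1 : F) := by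
    rw [hc0, Subgroup.coe_mul, Subgroup.coe_mul, Subgroup.coe_inv, hnb', ha]; exact DRel.nb_conj_14 h2
  obtain ⟨d, hd0⟩ : ∃ b' : ↥(twistedD4 F 2), b' = nb' * b * nb'⁻¹ := ⟨_, rfl⟩
  have hd : (d : GL chevD4.Idx F) = xG 1 (1 : F) := by
    rw [hd0, Subgroup.coe_mul, Subgroup.coe_mul, Subgroup.coe_inv, hnb', hb]; exact DRel.nb_conj_9 h2
  obtain ⟨⟨k1, k2, k3, k4⟩, k5, k6, k7⟩ := DRel.ok_all
  obtain ⟨⟨r1, r2, r3, r4⟩, r5, r6, r7⟩ := DRel.res_all
  have hco : ∀ g h : ↥(twistedD4 F 2), ((⁅g, h⁆ : ↥(twistedD4 F 2)) : GL chevD4.Idx F) =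
      ⁅(g : GL chevD4.Idx F), (h : GL chevD4.Idx F)⁆ := fun g h => map_commutatorElement (twistedD4 F 2).subtype g h
  obtain ⟨e, he0⟩ : ∃ b' : ↥(twistedD4 F 2), b' = ⁅a, c⁆ := ⟨_, rfl⟩
  have he : (e : GL chevD4.Idx F) = xG 23 (1 : F) := by
    rw [he0, hco, ha, hc]; exact DRel.comm_one h2 k1 r1
  obtain ⟨f, hf0⟩ : ∃ b' : ↥(twistedD4 F 2), b' = ⁅b, d⁆ := ⟨_, rfl⟩
  have hf : (f : GL chevD4.Idx F) = xG 0 (1 : F) := by
    rw [hf0, hco, hb, hd]; exact DRel.comm_one h2 k6 r6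
  have a2 : a * a = 1 := Subtype.ext (by rw [Subgroup.coe_mul, ha]; exact DRel.sq_one h2 14)
  -- commuting with `T`
  have hX : ∀ t : F, φ t = t → t = 0 ∨ t = 1 := by
    intro t ht
    rw [hφ] at ht
    have h3 : t * (t - 1) = 0 := by
      have : t * t = t := by rw [← pow_two]; exact ht
      rw [mul_sub, this, mul_one, sub_self]
    rcases mul_eq_zero.1 h3 with h | h
    · exact Or.inl h
    · exact Or.inr (sub_eq_zero.1 h)
  have ha1 : (xG 14 (1 : F) : GL chevD4.Idx F) ≠ 1 := by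
    intro h
    have h3 : (na F)⁻¹ * xG 14 (1 : F) * na F ∈ chevD4.borelSubgroup F := by
      rw [h, mul_one, inv_mul_cancel]; exact one_mem _
    exact one_ne_zero (xa_eq_zero h3)
  have ca : ∀ t ∈ T, a * t = t * a := by
    intro t ht
    obtain ⟨c', hc', h3⟩ := H_conj_a (φ := φ) (h := (t : GL chevD4.Idx F)) ht (hfix t)
    have h4 := h3 1
    rcases hX c' hc' with rfl | rfl
    · exfalso
      rw [zero_mul, xG_zero] at h4
      apply ha1
      exact mul_eq_left.1 (mul_inv_eq_one.1 h4)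
    · rw [one_mul] at h4
      apply Subtype.ext
      rw [Subgroup.coe_mul, Subgroup.coe_mul, ha]
      exact (mul_inv_eq_iff_eq_mul.1 h4).symm
  have cconj : ∀ n ∈ P.N, ∀ g : ↥(twistedD4 F 2), (∀ t ∈ T, g * t = t * g) → ∀ t ∈ T, (n * g * n⁻¹) * t = t * (n * g * n⁻¹) := by
    intro n hn g hg t ht
    have h3 : n⁻¹ * t * n ∈ T := by
      have h4 := conj_mem_diagonal (g := ((n⁻¹ : ↥(twistedD4 F 2)) : GL chevD4.Idx F)) (h := (t : GL chevD4.Idx F))
        ((memN _).1 (inv_mem hn)) ht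
      rw [Subgroup.mem_subgroupOf, Subgroup.coe_mul, Subgroup.coe_mul]
      have h5 : ((n : ↥(twistedD4 F 2)) : GL chevD4.Idx F) = ((n⁻¹ : ↥(twistedD4 F 2)) : GL chevD4.Idx F)⁻¹ := by
        rw [Subgroup.coe_inv, inv_inv]
      rw [h5]; exact h4
    have h4 := hg _ h3
    calc (n * g * n⁻¹) * t = n * (g * (n⁻¹ * t * n)) * n⁻¹ := by group
      _ = t * (n * g * n⁻¹) := by rw [h4]; group
  have cb : ∀ t ∈ T, b * t = t * b := by rw [hb0]; exact cconj na' hna a ca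
  have cc : ∀ t ∈ T, c * t = t * c := by rw [hc0]; exact cconj nb' hnb a ca
  have cd : ∀ t ∈ T, d * t = t * d := by rw [hd0]; exact cconj nb' hnb b cb
  have ccomm : ∀ g h : ↥(twistedD4 F 2), (∀ t ∈ T, g * t = t * g) → (∀ t ∈ T, h * t = t * h) → ∀ t ∈ T,
      ⁅g, h⁆ * t = t * ⁅g, h⁆ := by
    intro g h hg hh t ht
    have h1 : Commute g t := hg t ht
    have h3 : Commute h t := hh t ht
    rw [commutatorElement_def]
    exact ((h1.mul_left h3).mul_left h1.inv_left).mul_left h3.inv_left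
  have ce : ∀ t ∈ T, e * t = t * e := by rw [he0]; exact ccomm a c ca cc
  have cf : ∀ t ∈ T, f * t = t * f := by rw [hf0]; exact ccomm b d cb cd
  have hnab : na'⁻¹ * a * na' ∉ P.B := by
    intro h6
    rw [memB, Subgroup.coe_mul, Subgroup.coe_mul, Subgroup.coe_inv, hna', ha] at h6
    exact one_ne_zero (xa_eq_zero h6)
  have hab : a * b ≠ 1 := by
    intro h
    have h3 : b = a := by
      calc b = (a * a) * b := by rw [a2, one_mul]
        _ = a * (a * b) := by group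
        _ = a := by rw [h, mul_one]
    apply hnab
    have h4 : na'⁻¹ * a * na' = a := by
      have h6 : na' * a = a * na' := mul_inv_eq_iff_eq_mul.1 (hb0.symm.trans h3)
      calc na'⁻¹ * a * na' = na'⁻¹ * (a * na') := by group
        _ = a := by rw [← h6]; group
    rw [h4]; exact hUB haU
  have six : Six T a b c d e f := by
    refine ⟨?_, a2, Subtype.ext ?_, Subtype.ext ?_, hab, he0.symm, Subtype.ext ?_,
      Subtype.ext ?_, Subtype.ext ?_, Subtype.ext ?_, hf0.symm, Subtype.ext ?_⟩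
    · intro g hg
      simp only [Set.mem_insert_iff, Set.mem_singleton_iff] at hg
      rcases hg with h | h | h | h | h | h <;> rw [h] <;> assumption
    · rw [Subgroup.coe_mul, hb]; exact DRel.sq_one h2 9
    · rw [Subgroup.coe_pow, Subgroup.coe_mul, ha, hb]; exact DRel.cube h2
    · rw [hco, hb, hc, DRel.comm_of_ok k2, DRel.cval_of_none r2]; rfl
    · rw [hco, he, hd, ha]; exact DRel.comm_one h2 k3 r3
    · rw [hco, he, hb, hc]; exact DRel.comm_one h2 k4 r4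
    · rw [hco, ha, hf, hd]; exact DRel.comm_one h2 k5 r5
    · rw [hco, hc, hf, hb]; exact DRel.comm_one h2 k7 r7
  -- cards
  have hcU : Nat.card U = 4096 := by
    have h1 : Nat.card U = Nat.card ↥(chevD4.posUnipotent F ⊓ twistedD4 F 2) := by
      show Nat.card ((chevD4.posUnipotent F).subgroupOf (twistedD4 F 2)) = _
      rw [← Subgroup.inf_subgroupOf_right]
      exact Nat.card_congr (Subgroup.subgroupOfEquivOfLe inf_le_right).toEquiv
    rw [h1, card_U1 hq hK]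
    norm_num
  have hcT : Nat.card T = 7 := by
    have h1 : Nat.card T = Nat.card ↥(chevD4.diagonalSubgroup F ⊓ twistedD4 F 2) := by
      show Nat.card ((chevD4.diagonalSubgroup F).subgroupOf (twistedD4 F 2)) = _
      rw [← Subgroup.inf_subgroupOf_right]
      exact Nat.card_congr (Subgroup.subgroupOfEquivOfLe inf_le_right).toEquiv
    rw [h1, Cfsg.Agent.S1106.result hq hK]
    norm_num
  have hcG : Nat.card ↥(twistedD4 F 2) = 4096 * 51597 := by
    rw [Cfsg.Agent.S1067.result hq hK]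
    norm_num
  have hUi : U.index = 51597 := by
    have h1 := U.card_mul_index
    rw [hcU, hcG] at h1
    exact Nat.eq_of_mul_eq_mul_left (by norm_num) h1
  have hUp : IsPGroup 2 U := IsPGroup.of_card (n := 12) (by rw [hcU]; norm_num)
  have hdis : Disjoint U T := by
    rw [disjoint_iff_inf_le]
    intro z hz
    rw [Subgroup.mem_bot]
    have h1 := orderOf_dvd_natCard (⟨z, hz.1⟩ : U)
    have h3 := orderOf_dvd_natCard (⟨z, hz.2⟩ : T)
    rw [Subgroup.orderOf_mk, hcU] at h1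
    rw [Subgroup.orderOf_mk, hcT] at h3
    have h4 : orderOf z ∣ Nat.gcd 4096 7 := Nat.dvd_gcd h1 h3
    have h5 : Nat.gcd 4096 7 = 1 := by norm_num
    rw [h5, Nat.dvd_one] at h4
    exact orderOf_eq_one_iff.1 h4
  have hcB : Nat.card P.B = 4096 * 7 := by
    rw [← hcU, ← hcT, ← Nat.card_prod]
    refine (Nat.card_eq_of_bijective (fun p : U × T => (⟨p.1 * p.2, mul_mem (hUB p.1.2) (hTB p.2.2)⟩ : P.B)) ⟨?_, ?_⟩).symm
    · intro p p' h
      exact Subgroup.mul_injective_of_disjoint hdis (congrArg Subtype.val h)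
    · rintro ⟨w, hw⟩
      obtain ⟨u, hu, h, hh, rfl⟩ := hBUH w hw
      exact ⟨⟨⟨u, hu⟩, ⟨h, hh⟩⟩, rfl⟩
  -- the second node
  obtain ⟨X, hX0⟩ : ∃ X : F → ↥(twistedD4 F 2), ∀ t, (X t : GL chevD4.Idx F) = D4Fixed.X φ t :=
    ⟨fun t => ⟨D4Fixed.X φ t, D4Fixed.X_mem hφ t⟩, fun _ => rfl⟩
  have hXU : ∀ t, X t ∈ U := by
    intro t
    rw [Subgroup.mem_subgroupOf, hX0]
    exact RSouter_le_U (X_mem_RS t)
  have hXadd : ∀ t u, X (t + u) = X t * X u := fun t u => Subtype.ext (by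
    rw [Subgroup.coe_mul, hX0, hX0, hX0]; exact X_add t u)
  have hXb : ∀ t, nb'⁻¹ * X t * nb' ∈ P.B → t = 0 := by
    intro t ht
    rw [memB, Subgroup.coe_mul, Subgroup.coe_mul, Subgroup.coe_inv, hnb', hX0] at ht
    exact xb_eq_zero ht
  have hnorm : Subgroup.normalizer (U : Set ↥(twistedD4 F 2)) = P.B := by
    refine normalizer_eq P U hUB hBU ?_
    intro s hs
    rw [hPS] at hs
    rcases hs with h | h
    · exact ⟨a, haU, by rw [h, ← hna'']; exact hnab⟩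
    · refine ⟨X 1, hXU 1, ?_⟩
      rw [h, ← hnb'']
      exact fun h => one_ne_zero (hXb 1 h)
  refine ⟨⟨P, hUp.toSylow (by rw [hUi]; norm_num), T, a, b, c, d, e, f, hnorm, hcB, hTB, hcT, ?_, six, ?_⟩⟩
  · -- `T` is not central
    intro htop
    obtain ⟨c0, hc0, hc1⟩ : ∃ c0 : F, c0 ≠ 0 ∧ c0 ≠ 1 := by
      classical
      by_contra hcon
      push Not at hcon
      have h3 : (Finset.univ : Finset F) ⊆ {0, 1} := by
        intro x _
        by_cases hx : x = 0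
        · simp [hx]
        · simp [hcon x hx]
      have h4 := Finset.card_le_card h3
      rw [Finset.card_univ, hF] at h4
      have h5 : ({0, 1} : Finset F).card ≤ 2 := Finset.card_le_two
      omega
    have h3 : (⟨D4Twisted.hb φ c0, hb_mem hφ c0⟩ : ↥(twistedD4 F 2)) ∈ T := hb_mem_diagonal φ hc0
    have h4 : X 1 ∈ Subgroup.centralizer (T : Set ↥(twistedD4 F 2)) := by rw [htop]; exact Subgroup.mem_top _
    rw [Subgroup.mem_centralizer_iff] at h4
    have h5 := h4 _ h3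
    have h6 := congrArg (fun g : ↥(twistedD4 F 2) => (g : GL chevD4.Idx F)) h5
    simp only [Subgroup.coe_mul, hX0] at h6
    have h7 := sq_b (φ := φ) hc0
    rw [h6, mul_inv_cancel_right] at h7
    have h8 := X_inj h7
    have h9 : (c0 - 1) * (c0 - 1) = 0 := by
      calc (c0 - 1) * (c0 - 1) = c0 ^ 2 + 1 - 2 * c0 := by ring
        _ = 0 := by rw [h2, zero_mul, sub_zero, ← h8, one_add_one_eq_two, h2]
    exact hc1 (sub_eq_zero.1 (mul_self_eq_zero.1 h9))
  · intro H hBH hidx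
    have haH : a ∈ H := hBH (hUB haU)
    refine ⟨haH, ?_⟩
    -- some node lies in `H`
    obtain ⟨E, hE⟩ := Cfsg.Agent.S0316.result P
    set J := E.symm ⟨H, hBH⟩ with hJ
    have hHJ : H = P.parabolic (Subtype.val '' J) := by
      rw [← hE J, hJ, OrderIso.apply_symm_apply]
    have hJne : J.Nonempty := by
      rw [Set.nonempty_iff_ne_empty]
      intro h
      rw [h, Set.image_empty] at hHJ
      have h3 : H = P.B := by rw [hHJ, BNPair.parabolic, Subgroup.closure_empty, sup_bot_eq]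
      rw [h3, Subgroup.relIndex_self] at hidx
      omega
    obtain ⟨⟨s, hs⟩, hsJ⟩ := hJne
    have hsH : s ∈ H := by
      rw [hHJ]
      exact Subgroup.mem_sup_right (Subgroup.subset_closure ⟨⟨s, hs⟩, hsJ, rfl⟩)
    rw [hPS] at hs
    rcases hs with h | h
    · rw [hb0, hna'', ← h]
      exact H.mul_mem (H.mul_mem hsH haH) (H.inv_mem hsH)
    · exfalso
      have hnH : nb' ∈ H := by rw [hnb'', ← h]; exact hsH
      let g : F → ↥H ⧸ (P.B.subgroupOf H) := fun t => ((⟨X t * nb', H.mul_mem (hBH (hUB (hXU t))) hnH⟩ : H) : _)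
      have hg : Function.Injective g := by
        intro t t' htt
        have h3 := QuotientGroup.eq.1 htt
        rw [Subgroup.mem_subgroupOf] at h3
        have h4 : (X t * nb')⁻¹ * (X t' * nb') ∈ P.B := h3
        have h5 : (X t * nb')⁻¹ * (X t' * nb') = nb'⁻¹ * X (t' - t) * nb' := by
          have h6 : X t' = X t * X (t' - t) := by rw [← hXadd]; congr 1; ring
          rw [h6]; group
        rw [h5] at h4
        exact (sub_eq_zero.1 (hXb _ h4)).symm
      have h3 := Nat.card_le_card_of_injective g hg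
      rw [Nat.card_eq_fintype_card, hF] at h3
      have h4 : Nat.card (↥H ⧸ (P.B.subgroupOf H)) = 3 := hidx
      omega

/-- **`³D₄(2)`** : `x` normalises a parabolic subgroup `H` with three chambers, but no chamber -/
theorem d4 (hF : Fintype.card F = 8) (x : MulAut ↥(twistedD4 F 2)) (hx : orderOf x = 3) (hR : RC x)
    (V : Sylow 2 ↥(twistedD4 F 2)) (H : Subgroup ↥(twistedD4 F 2))
    (hle : Subgroup.normalizer ((V : Subgroup ↥(twistedD4 F 2)) : Set ↥(twistedD4 F 2)) ≤ H)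
    (hxH : ∀ h ∈ H, x h ∈ H)
    (hidx : (Subgroup.normalizer ((V : Subgroup ↥(twistedD4 F 2)) : Set ↥(twistedD4 F 2))).relIndex H = 3)
    (hno : ∀ W : Sylow 2 ↥(twistedD4 F 2),
      ¬ ∀ b ∈ Subgroup.normalizer ((W : Subgroup ↥(twistedD4 F 2)) : Set ↥(twistedD4 F 2)),
        x b ∈ Subgroup.normalizer ((W : Subgroup ↥(twistedD4 F 2)) : Set ↥(twistedD4 F 2))) : False := by
  obtain ⟨⟨P, U, T, a, b, c, d, e, f, hn, hcB, hTB, hcT, hC, six, hH⟩⟩ := facts hF
  have hx3 : x ^ 3 = 1 := by rw [← hx]; exact pow_orderOf_eq_one x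
  obtain ⟨g, hg⟩ := MulAction.exists_smul_eq ↥(twistedD4 F 2) U V
  -- the conjugate automorphism
  set y : MulAut ↥(twistedD4 F 2) := tr (MulAut.conj g⁻¹) x with hy
  have hya : ∀ k, y k = g⁻¹ * x (g * k * g⁻¹) * g := by
    intro k
    rw [hy, tr_apply]
    have h1 : (MulAut.conj g⁻¹).symm k = g * k * g⁻¹ := by
      rw [MulEquiv.symm_apply_eq, MulAut.conj_apply, inv_inv]
      group
    rw [h1, MulAut.conj_apply, inv_inv]
  have hy3 : y ^ 3 = 1 := by
    have h1 : orderOf y = orderOf x := orderOf_tr _ x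
    exact orderOf_dvd_iff_pow_eq_one.1 (h1 ▸ orderOf_dvd_of_pow_eq_one hx3)
  have hm : ∀ (W : Sylow 2 ↥(twistedD4 F 2)) (v : ↥(twistedD4 F 2)),
      v ∈ ((g • W : Sylow 2 ↥(twistedD4 F 2)) : Subgroup ↥(twistedD4 F 2)) ↔ g⁻¹ * v * g ∈ (W : Subgroup ↥(twistedD4 F 2)) := by
    intro W v
    rw [Sylow.smul_def, Sylow.pointwise_smul_def, Subgroup.mem_pointwise_smul_iff_inv_smul_mem]
    have : ((MulAut.conj g)⁻¹ • v : ↥(twistedD4 F 2)) = g⁻¹ * v * g := by
      rw [← map_inv]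
      change g⁻¹ * v * g⁻¹⁻¹ = _
      rw [inv_inv]
    rw [this]
  have hmN : ∀ v : ↥(twistedD4 F 2), v ∈ Subgroup.normalizer ((V : Subgroup ↥(twistedD4 F 2)) : Set ↥(twistedD4 F 2)) ↔
      g⁻¹ * v * g ∈ Subgroup.normalizer ((U : Subgroup ↥(twistedD4 F 2)) : Set ↥(twistedD4 F 2)) := by
    intro v
    rw [Subgroup.mem_normalizer_iff, Subgroup.mem_normalizer_iff]
    have hV : ∀ w, w ∈ (V : Subgroup ↥(twistedD4 F 2)) ↔ g⁻¹ * w * g ∈ (U : Subgroup ↥(twistedD4 F 2)) := by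
      intro w; rw [← hg]; exact hm U w
    constructor
    · intro h1 k
      have h3 := h1 (g * k * g⁻¹)
      rw [hV, hV] at h3
      have e1 : g⁻¹ * (g * k * g⁻¹) * g = k := by group
      have e2 : g⁻¹ * (v * (g * k * g⁻¹) * v⁻¹) * g = g⁻¹ * v * g * k * (g⁻¹ * v * g)⁻¹ := by group
      rwa [e1, e2] at h3
    · intro h1 k
      rw [hV, hV, h1]
      have e2 : g⁻¹ * (v * k * v⁻¹) * g = g⁻¹ * v * g * (g⁻¹ * k * g) * (g⁻¹ * v * g)⁻¹ := by group
      rw [e2]
  set H' : Subgroup ↥(twistedD4 F 2) := H.comap (MulAut.conj g).toMonoidHom with hH'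
  have hH'm : ∀ v, v ∈ H' ↔ g * v * g⁻¹ ∈ H := fun v => Iff.rfl
  have hNe : Subgroup.normalizer ((U : Subgroup ↥(twistedD4 F 2)) : Set ↥(twistedD4 F 2)) =
      (Subgroup.normalizer ((V : Subgroup ↥(twistedD4 F 2)) : Set ↥(twistedD4 F 2))).comap
        (MulAut.conj g).toMonoidHom := by
    ext v
    rw [Subgroup.mem_comap]
    change _ ↔ g * v * g⁻¹ ∈ _
    rw [hmN]
    have e1 : g⁻¹ * (g * v * g⁻¹) * g = v := by group
    rw [e1]
  have hle' : Subgroup.normalizer ((U : Subgroup ↥(twistedD4 F 2)) : Set ↥(twistedD4 F 2)) ≤ H' := by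
    rw [hNe]; exact Subgroup.comap_mono hle
  have hidx' : (Subgroup.normalizer ((U : Subgroup ↥(twistedD4 F 2)) : Set ↥(twistedD4 F 2))).relIndex H' = 3 := by
    rw [hNe, hH', Subgroup.relIndex_comap, Subgroup.map_comap_eq_self_of_surjective (MulAut.conj g).surjective, hidx]
  have hxH' : ∀ h ∈ H', y h ∈ H' := by
    intro h hh
    rw [hH'm] at hh ⊢
    rw [hya]
    have e1 : g * (g⁻¹ * x (g * h * g⁻¹) * g) * g⁻¹ = x (g * h * g⁻¹) := by group
    rw [e1]
    exact hxH _ hh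
  have hno' : ∀ W : Sylow 2 ↥(twistedD4 F 2), ¬ ∀ u ∈ (W : Subgroup ↥(twistedD4 F 2)), y u ∈ (W : Subgroup ↥(twistedD4 F 2)) := by
    intro W hW
    apply hno (g • W)
    have hW' : ∀ u ∈ ((g • W : Sylow 2 ↥(twistedD4 F 2)) : Subgroup ↥(twistedD4 F 2)),
        x u ∈ ((g • W : Sylow 2 ↥(twistedD4 F 2)) : Subgroup ↥(twistedD4 F 2)) := by
      intro u hu
      rw [hm] at hu ⊢
      have h1 := hW _ hu
      rw [hya] at h1
      have e1 : g * (g⁻¹ * u * g) * g⁻¹ = u := by group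
      rwa [e1] at h1
    set W' : Subgroup ↥(twistedD4 F 2) := ((g • W : Sylow 2 ↥(twistedD4 F 2)) : Subgroup ↥(twistedD4 F 2)) with hWd
    have hWe : W'.map x.toMonoidHom = W' := by
      apply Subgroup.eq_of_le_of_card_ge
      · rintro _ ⟨k, hk, rfl⟩
        exact hW' k hk
      · exact (Nat.card_congr (W'.equivMapOfInjective _ x.injective).toEquiv).le
    intro n hn
    rw [Subgroup.mem_normalizer_iff] at hn ⊢
    have hiff : ∀ k, x k ∈ W' ↔ k ∈ W' := by
      intro k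
      refine ⟨fun hk => ?_, hW' k⟩
      rw [← hWe] at hk
      obtain ⟨l, hl, h5⟩ := hk
      have h6 : l = k := x.injective h5
      rw [← h6]; exact hl
    intro k
    obtain ⟨l, rfl⟩ := x.surjective k
    rw [← map_mul, ← map_inv, ← map_mul, hiff, hiff]
    exact hn l
  have hn3 : ¬ 3 ∣ Nat.card (Subgroup.normalizer ((U : Subgroup ↥(twistedD4 F 2)) : Set ↥(twistedD4 F 2))) := by
    rw [hn, hcB]; norm_num
  have hn49 : ¬ 49 ∣ Nat.card (Subgroup.normalizer ((U : Subgroup ↥(twistedD4 F 2)) : Set ↥(twistedD4 F 2))) := by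
    rw [hn, hcB]; norm_num
  have hBH' : P.B ≤ H' := by rw [← hn]; exact hle'
  obtain ⟨haH, hbH⟩ := hH H' hBH' (by rw [← hn]; exact hidx')
  exact main six hy3 (hR.tr _) U hle' hidx' hxH' hno' hn3 (hTB.trans hBH') hcT hn49 hC haH hbH

end Inst

end Cfsg.Agent.H826.AASmall
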