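import Cfsg.Agent.H826.AASmall.Om
import Cfsg.Agent.KFacts.Unit.Emb
import Cfsg.Agent.S0815

/-!
# `U₅(2)` (helper826)

`M = SU₄(2)`, `t = diag(w,w,w,w,w²)`: `M × ⟨t⟩` has index 176, and the conjugate `diag(w²,w,w,w,w)` of `t` normalises `M`.
-/

set_option autoImplicit false

namespace Cfsg.Agent.H826.AASmall

open Subgroup Cfsg Matrix Cfsg.Agent.H459.Rad Cfsg.Agent.H460.AA
open Cfsg.Agent.LieClassical.HermBasic Cfsg.Agent.LieClassical.HermSiegel Cfsg.Agent.LieClassical.HermGen
open Cfsg.Agent.KFacts.Unit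

section gen

variable {F : Type*} [Field F] {n q : ℕ}

/-- diagonal elements -/
def dg (d : Fin n → F) (h : ∀ i, d i * d i ^ q = 1) (hd : ∏ i, d i = 1) : SU n F q :=
  mkSU (diagonal d) (by rw [det_diagonal, hd]) fun u v => by
    rw [herm_def, herm_def]
    refine Finset.sum_congr rfl fun i _ => ?_
    rw [mulVec_diagonal, mulVec_diagonal, mul_pow]
    calc d i * u i * (d i ^ q * v i ^ q) = (d i * d i ^ q) * (u i * v i ^ q) := by ring
      _ = _ := by rw [h, one_mul]

theorem mat_dg (d : Fin n → F) (h : ∀ i, d i * d i ^ q = 1) (hd : ∏ i, d i = 1) : mat (dg d h hd) = diagonal d := rfl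

theorem perm_mulVec (σ : Equiv.Perm (Fin n)) (v : Fin n → F) :
    ((1 : Matrix (Fin n) (Fin n) F).submatrix σ id) *ᵥ v = v ∘ σ := by
  funext i
  simp [Matrix.mulVec, dotProduct, Matrix.one_apply]

/-- permutation matrices -/
def pm (h2 : (2 : F) = 0) (σ : Equiv.Perm (Fin n)) : SU n F q :=
  mkSU ((1 : Matrix (Fin n) (Fin n) F).submatrix σ id) (by
    have h1 : (-1 : F) = 1 := by
      rw [neg_eq_iff_add_eq_zero, one_add_one_eq_two, h2]
    rw [det_permute, det_one, mul_one]
    rcases Int.units_eq_one_or (Equiv.Perm.sign σ) with h | h <;> rw [h] <;> simp [h1]) fun u v => by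
    rw [herm_def, herm_def, perm_mulVec, perm_mulVec]
    exact Equiv.sum_comp σ fun i => u i * v i ^ q

theorem act_pm (h2 : (2 : F) = 0) (σ : Equiv.Perm (Fin n)) (v : Fin n → F) :
    act (pm h2 σ : SU n F q) v = v ∘ σ := perm_mulVec σ v

theorem act_dg (d : Fin n → F) (h : ∀ i, d i * d i ^ q = 1) (hd : ∏ i, d i = 1) (v : Fin n → F) (i : Fin n) :
    act (dg d h hd) v i = d i * v i := mulVec_diagonal _ _ _

/-- conjugation of a diagonal element by a permutation -/
theorem pm_dg (h2 : (2 : F) = 0) (σ : Equiv.Perm (Fin n)) (d : Fin n → F) (h : ∀ i, d i * d i ^ q = 1)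
    (hd : ∏ i, d i = 1) : (pm h2 σ : SU n F q) * dg d h hd * (pm h2 σ)⁻¹ =
      dg (d ∘ σ) (fun i => h _) (by rw [← hd]; exact Equiv.prod_comp σ d) := by
  rw [mul_inv_eq_iff_eq_mul]
  apply ext_act
  intro v
  rw [act_mul, act_mul]
  funext i
  rw [act_dg, act_pm, act_pm, Function.comp_apply, act_dg]
  rfl

end gen

section five

variable {F : Type*} [Field F] [Fintype F] (hF : Fintype.card F = 4)

include hF

omit [Field F] in
theorem hF' : Fintype.card F = 2 ^ 2 := by rw [hF]; norm_num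

theorem two_eq : (2 : F) = 0 := by
  have h1 : (Fintype.card F : F) = 0 := FiniteField.cast_card_eq_zero F
  rw [hF] at h1
  have h3 : (2 : F) * 2 = 0 := by
    have : ((4 : ℕ) : F) = 2 * 2 := by norm_num
    rw [← this]; exact h1
  rcases mul_eq_zero.1 h3 with h | h <;> exact h

theorem exists_w : ∃ w : F, w * w ^ 2 = 1 ∧ w ^ 2 ≠ w ∧ w ≠ 1 := by
  classical
  have h1 : ∃ w : F, w ≠ 0 ∧ w ≠ 1 := by
    by_contra h
    push Not at h
    have h2 : (Finset.univ : Finset F) ⊆ {0, 1} := by
      intro x _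
      by_cases hx : x = 0
      · simp [hx]
      · simp [h x hx]
    have h3 := Finset.card_le_card h2
    rw [Finset.card_univ, hF] at h3
    have h4 : ({0, 1} : Finset F).card ≤ 2 := Finset.card_le_two
    omega
  obtain ⟨w, h0, h1⟩ := h1
  have h3 : w ^ 4 = w := by
    have := FiniteField.pow_card w
    rwa [hF] at this
  refine ⟨w, ?_, ?_, h1⟩
  · have : w * (w * w ^ 2) = w * 1 := by
      rw [mul_one]
      calc w * (w * w ^ 2) = w ^ 4 := by ring
        _ = w := h3
    exact mul_left_cancel₀ h0 this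
  · intro h2
    apply h1
    have : w * w = w * 1 := by rw [mul_one, ← pow_two, h2]
    exact mul_left_cancel₀ h0 this

theorem card_su5 : Nat.card (SU 5 F 2) = 13685760 := by
  have h1 := Cfsg.Agent.S0278.result (q := 2) (F := F) (hF' hF) 5 (by norm_num)
  norm_num [Finset.prod_range_succ, Nat.even_add_one] at h1
  omega

theorem card_psu5 : Nat.card (PSU 5 F 2) = 13685760 := by
  have h1 := Cfsg.Agent.S0280.result (q := 2) (F := F) (hF' hF) 5 (by norm_num)
  norm_num [Finset.prod_range_succ, Nat.even_add_one] at h1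
  omega

/-- **`SU₅(2)`, elements** -/
theorem su5_elt {a : SU 5 F 2} (ha : orderOf a = 3) (h : RC (MulAut.conj a)) : False := by
  have hp : Fact (Nat.Prime 3) := ⟨Nat.prime_three⟩
  have h2 := two_eq hF
  obtain ⟨w, hw, hw2, hw1⟩ := exists_w hF
  have hww : w ^ 2 * (w ^ 2) ^ 2 = 1 := by
    calc w ^ 2 * (w ^ 2) ^ 2 = (w * w ^ 2) * (w * w ^ 2) := by ring
      _ = 1 := by rw [hw, one_mul]
  let d : Fin 5 → F := ![w, w, w, w, w ^ 2]
  have hd : ∀ i, d i * d i ^ 2 = 1 := by
    intro i
    fin_cases i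
    · exact hw
    · exact hw
    · exact hw
    · exact hw
    · exact hww
  have hd1 : ∏ i, d i = 1 := by
    rw [Fin.prod_univ_five]
    show w * w * w * w * w ^ 2 = 1
    calc w * w * w * w * w ^ 2 = (w * w ^ 2) * (w * w ^ 2) := by ring
      _ = 1 := by rw [hw, one_mul]
  let t : SU 5 F 2 := dg d hd hd1
  let f : SU 4 F 2 →* SU 5 F 2 := emb 1
  have hf : Function.Injective f := emb_injective
  let s : SU 5 F 2 := pm h2 (Equiv.swap 0 4)
  have hst : s * t * s⁻¹ = dg (d ∘ Equiv.swap 0 4) (fun i => hd _)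
      (by rw [← hd1]; exact Equiv.prod_comp (Equiv.swap 0 4) d) := pm_dg h2 _ d hd hd1
  have ht1 : t ≠ 1 := by
    intro h1
    have h3 := congrArg (fun g => act g (Pi.single 0 1) 0) h1
    simp only [t, act_dg, act_one, Pi.single_eq_same, mul_one] at h3
    exact hw1 h3
  have ht : orderOf t = 3 := by
    refine orderOf_eq_prime ?_ ht1
    apply ext_act
    intro v
    funext i
    rw [pow_succ, pow_two, act_mul, act_mul, act_one, act_dg, act_dg, act_dg]
    calc d i * (d i * (d i * v i)) = (d i * d i ^ 2) * v i := by ring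
      _ = v i := by rw [hd, one_mul]
  have hcM : Nat.card f.range = 25920 := by
    rw [← Nat.card_congr (MonoidHom.ofInjective hf).toEquiv, card_su4 hF]
  have hlast : ∀ i : Fin 5, 4 ≤ i.val → i = 4 := by
    intro i hi
    apply Fin.ext
    have := i.2
    show i.val = 4
    omega
  have hmem : ∀ g : SU 5 F 2, g ∈ f.range ↔ act g (Pi.single 4 1) = Pi.single 4 1 := by
    intro g
    constructor
    · rintro ⟨A, rfl⟩
      exact emb_mem (d := 1) A 4 (by decide)
    · intro hg
      have h1 : g ∈ (fixGrp 4 : Subgroup (SU (4 + 1) F 2)) := by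
        intro i hi
        have := hlast i hi
        rw [this]
        exact hg
      obtain ⟨A, hA⟩ := exists_emb (m := 4) (d := 1) (hF' hF) h1
      exact ⟨A, hA⟩
  -- diagonal elements act on the last vector
  have hdl : ∀ (d' : Fin 5 → F) (h1 : ∀ i, d' i * d' i ^ 2 = 1) (h3 : ∏ i, d' i = 1) (c : F),
      act (dg d' h1 h3) (Pi.single 4 c) = Pi.single 4 (d' 4 * c) := by
    intro d' h1 h3 c
    funext i
    rw [act_dg]
    by_cases hi : i = 4
    · subst hi; simp
    · simp [hi]
  have hnorm : ∀ (d' : Fin 5 → F) (h1 : ∀ i, d' i * d' i ^ 2 = 1) (h3 : ∏ i, d' i = 1), ∀ m ∈ f.range,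
      dg d' h1 h3 * m * (dg d' h1 h3)⁻¹ ∈ f.range := by
    intro d' h1 h3 m hm
    rw [hmem] at hm ⊢
    set D := dg d' h1 h3 with hD
    have h0 : d' 4 ≠ 0 := by
      intro h0
      have := h1 4
      rw [h0, zero_mul] at this
      exact zero_ne_one this
    have h4 : act D⁻¹ (Pi.single 4 1) = Pi.single 4 (d' 4)⁻¹ := by
      apply act_injective D
      rw [act_act_inv, hdl, mul_inv_cancel₀ h0]
    have h5 : (Pi.single 4 (d' 4)⁻¹ : Fin 5 → F) = (d' 4)⁻¹ • Pi.single 4 1 := by
      rw [← Pi.single_smul, smul_eq_mul, mul_one]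
    rw [act_mul, act_mul, h4, h5, act_smul, hm, ← h5, hdl, mul_inv_cancel₀ h0]
  refine false_of_prod (p := 3) (M := f.range) (t := t) (N := 176) (s := s) (m₀ := pm h2 (Equiv.swap 0 1)) ?_ ?_ ht ?_ ?_
    (by norm_num) ?_ ?_ ?_ ha h
  · intro h1
    have h3 := hcM
    rw [h1, card_top, card_su5 hF] at h3
    omega
  · exact rad_range f hf (rad_su4 hF)
  · rintro _ ⟨A, rfl⟩
    apply ext_act
    intro v
    rw [act_mul, act_mul]
    apply ext_fin (m := 4) (d := 1)
    · intro i
      have h1 : ∀ i : Fin 4, d (Fin.castAdd 1 i) = w := by intro i; fin_cases i <;> rfl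
      rw [act_dg, h1]
      show w * act (emb 1 A) v (Fin.castAdd 1 i) = act (emb 1 A) (act t v) (Fin.castAdd 1 i)
      rw [act_emb_c, act_emb_c]
      have h3 : (fun j => act t v (Fin.castAdd 1 j)) = w • fun j => v (Fin.castAdd 1 j) := by
        funext j
        rw [act_dg, h1]; rfl
      rw [h3, act_smul]
      rfl
    · intro i
      rw [act_dg]
      show d _ * act (emb 1 A) v (Fin.natAdd 4 i) = act (emb 1 A) (act t v) (Fin.natAdd 4 i)
      rw [act_emb_n, act_emb_n, act_dg]
  · rw [hcM, card_su5 hF]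
  · intro m hm
    rw [hst]
    exact hnorm _ _ _ m hm
  · rw [hmem, act_pm]
    funext i
    fin_cases i <;> rfl
  · rw [hst]
    intro h1
    have h3 := congrArg (fun g => act g (Pi.single 1 1) 0) h1
    simp only [act_mul, act_dg, act_pm, Function.comp_apply] at h3
    have e1 : (Equiv.swap (0 : Fin 5) 4) 0 = 4 := by decide
    have e2 : (Equiv.swap (0 : Fin 5) 1) 0 = 1 := by decide
    have e3 : (Equiv.swap (0 : Fin 5) 4) 1 = 1 := by decide
    rw [e1, e2, e3, Pi.single_eq_same, mul_one, mul_one] at h3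
    exact hw2 h3

/-- `SU₅(2) = PSU₅(2)` -/
theorem su5_equiv : Nonempty (PSU 5 F 2 ≃* SU 5 F 2) :=
  ⟨(equivOfSurj (QuotientGroup.mk' (center (SU 5 F 2))) (QuotientGroup.mk'_surjective _)
    (by rw [card_su5 hF, card_psu5 hF])).symm⟩

/-- **`U₅(2)`** -/
theorem u5 (x : MulAut (PSU 5 F 2)) (hx : orderOf x = 3) (h : RC x) : False := by
  obtain ⟨e⟩ := su5_equiv hF
  have : Finite (PSU 5 F 2) := Finite.of_equiv _ e.symm.toEquiv
  have hs : IsSimpleGroup (PSU 5 F 2) := Cfsg.Agent.S0283.result (q := 2) (hF' hF) 5 (by norm_num) (by norm_num)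
  have hc : center (PSU 5 F 2) = ⊥ := by
    rcases (inferInstance : (center (PSU 5 F 2)).Normal).eq_bot_or_eq_top with h1 | h1
    · exact h1
    · exfalso
      refine not_solvable_of_card (G := PSU 5 F 2) (by rw [card_psu5 hF]; norm_num) ?_
      exact Group.isSolvable_of_comm fun a b => (mem_center_iff.1 (h1 ▸ mem_top b : b ∈ center (PSU 5 F 2)) a)
  -- `x` is inner
  have hin : ∃ a : PSU 5 F 2, x = MulAut.conj a := by
    have h1 : (MulAut.conj : PSU 5 F 2 →* MulAut (PSU 5 F 2)).range.index = 2 := by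
      have h3 := Cfsg.Agent.S0815.result (F := F) 2 1 le_rfl (q := 2) (by norm_num) (hF' hF) 5 (by norm_num) (by norm_num)
      have h4 := (MulAut.conj : PSU 5 F 2 →* MulAut (PSU 5 F 2)).range.card_mul_index
      rw [← Nat.card_congr (MonoidHom.ofInjective (conj_injective hc)).toEquiv, h3, card_psu5 hF] at h4
      norm_num at h4
      omega
    have h3 := mul_self_mem_of_index_two h1 x
    have h4 : x = (x * x) * (x * x) := by
      have h5 : x ^ 3 = 1 := by rw [← hx]; exact pow_orderOf_eq_one x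
      calc x = x ^ 3 * x := by rw [h5, one_mul]
        _ = _ := by simp only [pow_succ, pow_zero, one_mul, mul_assoc]
    have h5 : x ∈ (MulAut.conj : PSU 5 F 2 →* MulAut (PSU 5 F 2)).range := by
      rw [h4]; exact mul_mem h3 h3
    obtain ⟨a, ha⟩ := h5
    exact ⟨a, ha.symm⟩
  obtain ⟨a, rfl⟩ := hin
  have h1 := h.tr e
  have h3 : tr e (MulAut.conj a) = MulAut.conj (e a) := by
    ext l
    rw [tr_apply]
    simp
  rw [h3] at h1
  refine su5_elt hF ?_ h1
  have h2 : orderOf (e a) = orderOf a := orderOf_injective e.toMonoidHom e.injective a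
  rw [h2, ← hx]
  exact (orderOf_injective _ (conj_injective hc) a).symm

end five

end Cfsg.Agent.H826.AASmall
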