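import Cfsg.Agent.H235.AA.Tools
import Cfsg.Agent.H491.AA.Alt
import Cfsg.Agent.S0243
import Cfsg.Agent.S0255
import Cfsg.Agent.S0256
import Cfsg.Agent.S0822
import Cfsg.Agent.S0813
import Cfsg.Agent.S0249
import Cfsg.Agent.ClassicalGeometry.PSL2Basic

/-!
# `AA`: the small linear and unitary groups `L_4(2) = A_8`, `L_3(2)`, `U_4(2) = S_4(3)` (helper826)
-/

set_option autoImplicit false

namespace Cfsg.Agent.H826.AASmall.Low

open Cfsg Matrix Cfsg.Agent.H460.AA Cfsg.Agent.H235.AA.Tools

variable {F : Type} [Field F] [Fintype F]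

theorem core_psl4_two (hF : Fintype.card F = 2) : Core (Matrix.ProjectiveSpecialLinearGroup (Fin 4) F) := by
  obtain ⟨e⟩ := Cfsg.Agent.S0256.result hF
  exact Core.of_equiv e (Cfsg.Agent.H491.AA.core_alt 8 (by norm_num))

theorem iso_u4_two (hF : Fintype.card F = 4) {F' : Type} [Field F'] [Fintype F'] (hF' : Fintype.card F' = 3) :
    Nonempty (PSU 4 F 2 ≃* PSp 2 F') := Cfsg.Agent.S0822.result hF hF'

/-- an automorphism of odd order is inner if the inner automorphisms have index 2 -/
theorem inner_of_card {K : Type*} [Group K] [Finite K] (hc : Subgroup.center K = ⊥)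
    (h2 : Nat.card (MulAut K) = 2 * Nat.card K) (p : ℕ) [hp : Fact p.Prime] (hp2 : p ≠ 2) (x : MulAut K)
    (hx : orderOf x = p) : ∃ a : K, x = MulAut.conj a := by
  have h3 : Nat.card (MulAut.conj (G := K)).range = Nat.card K := by
    refine (Nat.card_congr (MonoidHom.ofInjective (f := MulAut.conj (G := K)) ?_).toEquiv).symm
    rw [← MonoidHom.ker_eq_bot_iff, eq_bot_iff, ← hc]
    intro a ha
    rw [Subgroup.mem_center_iff]
    intro g
    have h4 : MulAut.conj a g = g := by rw [MonoidHom.mem_ker.1 ha]; rfl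
    rw [MulAut.conj_apply] at h4
    calc g * a = a * g * a⁻¹ * a := by rw [h4]
      _ = a * g := by group
  have h4 : (MulAut.conj (G := K)).range.index = 2 := by
    have h5 := Subgroup.card_mul_index (MulAut.conj (G := K)).range
    rw [h3, h2, mul_comm 2] at h5
    exact Nat.eq_of_mul_eq_mul_left Nat.card_pos h5
  have h5 : x * x ∈ (MulAut.conj (G := K)).range := Subgroup.mul_self_mem_of_index_two h4 x
  have h6 : x = (x * x) ^ ((p + 1) / 2) := by
    have h7 : (x * x) ^ ((p + 1) / 2) = x ^ (p + 1) := by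
      rw [← sq, ← pow_mul]
      congr 1
      have := hp.out.odd_of_ne_two hp2
      rcases this with ⟨k, hk⟩
      omega
    rw [h7, pow_succ, ← hx, pow_orderOf_eq_one, one_mul]
  have h7 : x ∈ (MulAut.conj (G := K)).range := by
    rw [h6]
    exact Subgroup.pow_mem _ h5 _
  obtain ⟨a, ha⟩ := h7
  exact ⟨a, ha.symm⟩

theorem core_psl3_two (hF : Fintype.card F = 2) : Core (Matrix.ProjectiveSpecialLinearGroup (Fin 3) F) := by
  have hc : Nat.card (Matrix.ProjectiveSpecialLinearGroup (Fin 3) F) = 168 := by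
    have h := Cfsg.Agent.S0243.result hF 3 (by norm_num)
    rw [Fin.prod_univ_three] at h
    norm_num at h
    omega
  have : Finite (Matrix.ProjectiveSpecialLinearGroup (Fin 3) F) := Nat.finite_of_card_ne_zero (by rw [hc]; norm_num)
  have : IsSimpleGroup (Matrix.ProjectiveSpecialLinearGroup (Fin 3) F) := Cfsg.Agent.S0249.result 3 le_rfl
  have hna := not_comm_of_card (K := Matrix.ProjectiveSpecialLinearGroup (Fin 3) F) (by rw [hc]; norm_num)
  have hz := center_eq_bot hna
  have ha : Nat.card (MulAut (Matrix.ProjectiveSpecialLinearGroup (Fin 3) F)) = 2 * 168 := by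
    have : Fact (Nat.Prime 2) := ⟨Nat.prime_two⟩
    have h1 := Cfsg.Agent.S0813.result (F := F) 2 1 le_rfl (by rw [hF]; norm_num) 3 (by norm_num) (by norm_num)
    have h2 := Cfsg.Agent.ClassicalGeometry.PSL2Basic.card_PGL_mul (Fin 3) F
    have h3 := Cfsg.Agent.S0243.result hF 3 (by norm_num)
    rw [Matrix.card_GL_field, hF, ← h3, hc] at h2
    norm_num at h1 h2
    rw [h1, h2]
  refine core_of_NP hz (inner_of_card hz (by rw [ha, hc])) fun p hp hp2 => ?_
  refine NP.of_not_sq hna hp2 ?_
  rw [hc]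
  intro h
  have h1 : p * p ∣ 2 ^ 3 * 21 := by rw [← sq]; exact h
  have h2 : Nat.Coprime (p * p) (2 ^ 3) := by
    have : Nat.Coprime p 2 := (Nat.coprime_primes hp.out Nat.prime_two).2 hp2
    exact Nat.Coprime.pow_right 3 (Nat.Coprime.mul_left this this)
  have h3 : p * p ∣ 21 := h2.dvd_of_dvd_mul_left h1
  have h4 : p * p ≤ 21 := Nat.le_of_dvd (by norm_num) h3
  have h5 : p ≤ 4 := by nlinarith
  have := hp.out.two_le
  interval_cases p <;> revert h3 <;> decide

end Cfsg.Agent.H826.AASmall.Low
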