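import Cfsg.Agent.H826.AASmall.Om
import Cfsg.Agent.UGT.U2.Rec.Congr
import Cfsg.Agent.S0293

/-!
# `Ω⁺₈(2)`, elements (helper826)

`V = W₆ ⊥ W₂`, both of minus type, `M = Ω(W₆)`, `t` of order 3 on `W₂`: `M × ⟨t⟩` has index 2240, and `t` has a conjugate
in `M`.
-/

set_option autoImplicit false

namespace Cfsg.Agent.H826.AASmall

open Subgroup Cfsg Matrix Cfsg.Agent.H459.Rad Cfsg.Agent.H460.AA
open scoped commutatorElement

abbrev J6' : Type := (Fin 2 ⊕ Fin 2) ⊕ Fin 2
abbrev I8 : Type := Fin 4 ⊕ Fin 4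
abbrev IW : Type := J6' ⊕ Fin 2

abbrev Q8 : (I8 → ZMod 2) → ZMod 2 := quadFormPlus 4 (ZMod 2)
def N2 (u : Fin 2 → ZMod 2) : ZMod 2 := u 0 ^ 2 + u 0 * u 1 + u 1 ^ 2

def p6 (r : J6') : ℕ := Sum.elim (Sum.elim (fun i : Fin 2 => i.1) (fun i : Fin 2 => i.1 + 2)) (fun i : Fin 2 => i.1 + 4) r
def p8 (r : I8) : ℕ := Sum.elim (fun i : Fin 4 => i.1) (fun i : Fin 4 => i.1 + 4) r
def pw (r : IW) : ℕ := Sum.elim p6 (fun i : Fin 2 => i.1 + 6) r
def bt (n k i j : ℕ) : ZMod 2 := ((n / 2 ^ (k * i + j) % 2 : ℕ) : ZMod 2)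

/-- change of coordinates -/
def CC : Matrix I8 IW (ZMod 2) := fun i j => bt 12740692161793622529 8 (p8 i) (pw j)
def CI : Matrix IW I8 (ZMod 2) := fun i j => bt 4939407038855774721 8 (pw i) (p8 j)
def m8 (n : ℕ) : Matrix I8 I8 (ZMod 2) := fun i j => bt n 8 (p8 i) (p8 j)
def m6 (n : ℕ) : Matrix J6' J6' (ZMod 2) := fun i j => bt n 6 (p6 i) (p6 j)

theorem CC_CI : CC * CI = 1 := by decide +kernel
theorem CI_CC : CI * CC = 1 := by decide +kernel
theorem Q_CC : ∀ w : IW → ZMod 2, Q8 (CC *ᵥ w) = Q6 (w ∘ Sum.inl) + N2 (w ∘ Sum.inr) := by decide +kernel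

attribute [irreducible] CC CI m8 m6

theorem Q_eq (v : I8 → ZMod 2) : Q8 v = Q6 ((CI *ᵥ v) ∘ Sum.inl) + N2 ((CI *ᵥ v) ∘ Sum.inr) := by
  rw [← Q_CC, mulVec_mulVec, CC_CI, one_mulVec]

/-- block matrices in the coordinates -/
def blk (g : Matrix J6' J6' (ZMod 2)) (h : Matrix (Fin 2) (Fin 2) (ZMod 2)) : Matrix I8 I8 (ZMod 2) :=
  CC * fromBlocks g 0 0 h * CI

theorem blk_mul (g g' : Matrix J6' J6' (ZMod 2)) (h h' : Matrix (Fin 2) (Fin 2) (ZMod 2)) :
    blk g h * blk g' h' = blk (g * g') (h * h') := by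
  unfold blk
  calc CC * fromBlocks g 0 0 h * CI * (CC * fromBlocks g' 0 0 h' * CI) =
      CC * fromBlocks g 0 0 h * (CI * CC) * fromBlocks g' 0 0 h' * CI := by simp only [Matrix.mul_assoc]
    _ = _ := by
      rw [CI_CC, Matrix.mul_one, Matrix.mul_assoc CC, fromBlocks_multiply]
      simp

theorem blk_one : blk 1 1 = 1 := by
  rw [blk, fromBlocks_one, Matrix.mul_one, CC_CI]

theorem blk_inj {g g' : Matrix J6' J6' (ZMod 2)} {h h' : Matrix (Fin 2) (Fin 2) (ZMod 2)} (e : blk g h = blk g' h') :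
    g = g' ∧ h = h' := by
  have h1 : ∀ (g : Matrix J6' J6' (ZMod 2)) (h : Matrix (Fin 2) (Fin 2) (ZMod 2)),
      CI * blk g h * CC = fromBlocks g 0 0 h := by
    intro g h
    unfold blk
    calc CI * (CC * fromBlocks g 0 0 h * CI) * CC = (CI * CC) * fromBlocks g 0 0 h * (CI * CC) := by
          simp only [Matrix.mul_assoc]
      _ = _ := by rw [CI_CC, Matrix.one_mul, Matrix.mul_one]
  have h2 : fromBlocks g 0 0 h = fromBlocks g' 0 0 h' := by rw [← h1, ← h1, e]
  rw [fromBlocks_inj] at h2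
  exact ⟨h2.1, h2.2.2.2⟩

theorem blk_mulVec (g : Matrix J6' J6' (ZMod 2)) (h : Matrix (Fin 2) (Fin 2) (ZMod 2)) (v : I8 → ZMod 2) :
    Q8 (blk g h *ᵥ v) = Q6 (g *ᵥ ((CI *ᵥ v) ∘ Sum.inl)) + N2 (h *ᵥ ((CI *ᵥ v) ∘ Sum.inr)) := by
  rw [Q_eq]
  have h1 : CI *ᵥ (blk g h *ᵥ v) = fromBlocks g 0 0 h *ᵥ (CI *ᵥ v) := by
    have h2 : CI * blk g h = fromBlocks g 0 0 h * CI := by
      unfold blk
      rw [Matrix.mul_assoc CC, ← Matrix.mul_assoc CI, CI_CC, Matrix.one_mul]
    rw [mulVec_mulVec, mulVec_mulVec, h2]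
  rw [h1, fromBlocks_mulVec]
  simp

attribute [irreducible] blk

/-- block matrices, as a homomorphism -/
def blkHom : Matrix J6' J6' (ZMod 2) →* Matrix I8 I8 (ZMod 2) where
  toFun g := blk g 1
  map_one' := blk_one
  map_mul' g h := by rw [blk_mul, mul_one]

theorem blkHom_apply (g : Matrix J6' J6' (ZMod 2)) : blkHom g = blk g 1 := rfl

/-- `O⁻₆(2) → O⁺₈(2)` -/
def Phi : isometryGroup (ZMod 2) Q6 →* isometryGroup (ZMod 2) Q8 :=
  ((Units.map blkHom).comp (isometryGroup (ZMod 2) Q6).subtype).codRestrict _ (by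
    intro g u v
    have h1 : Q6 (((g : GL J6' (ZMod 2)) : Matrix J6' J6' (ZMod 2)) *ᵥ ((CI *ᵥ u) ∘ Sum.inl)) =
      Q6 ((CI *ᵥ u) ∘ Sum.inl) := g.2 _ ((CI *ᵥ u) ∘ Sum.inl)
    change Q8 (blk ((g : GL J6' (ZMod 2)) : Matrix J6' J6' (ZMod 2)) 1 *ᵥ u) = Q8 u
    rw [blk_mulVec, one_mulVec, Q_eq u, h1])

theorem Phi_val (g : isometryGroup (ZMod 2) Q6) : ((Phi g : GL I8 (ZMod 2)) : Matrix I8 I8 (ZMod 2)) =
    blk ((g : GL J6' (ZMod 2)) : Matrix J6' J6' (ZMod 2)) 1 := rfl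

theorem Phi_injective : Function.Injective Phi := by
  intro g h e
  have h1 := congrArg (fun x : isometryGroup (ZMod 2) Q8 => ((x : GL I8 (ZMod 2)) : Matrix I8 I8 (ZMod 2))) e
  simp only [Phi_val] at h1
  exact Subtype.ext (Units.ext (blk_inj h1).1)

/-- an involution in the isometry group -/
def mkI {ι : Type} [Fintype ι] [DecidableEq ι] (Q : (ι → ZMod 2) → ZMod 2) (M : Matrix ι ι (ZMod 2)) (h : M * M = 1)
    (hQ : ∀ v, Q (M *ᵥ v) = Q v) : isometryGroup (ZMod 2) Q := ⟨⟨M, M, h, h⟩, fun u _ => hQ u⟩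

def pp : isometryGroup (ZMod 2) Q8 := mkI Q8 (m8 9531903864555700737) (by unfold m8; decide +kernel) (by unfold m8; decide +kernel)
def qq : isometryGroup (ZMod 2) Q8 := mkI Q8 (m8 8569081144236007338) (by unfold m8; decide +kernel) (by unfold m8; decide +kernel)
def r1 : isometryGroup (ZMod 2) Q8 := mkI Q8 (m8 5206196425566454273) (by unfold m8; decide +kernel) (by unfold m8; decide +kernel)
def r2 : isometryGroup (ZMod 2) Q8 := mkI Q8 (m8 9224533189991596545) (by unfold m8; decide +kernel) (by unfold m8; decide +kernel)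
def rho1 : isometryGroup (ZMod 2) Q6 := mkI Q6 (m6 34629763855) (by unfold m6; decide +kernel) (by unfold m6; decide +kernel)
def rho2 : isometryGroup (ZMod 2) Q6 := mkI Q6 (m6 34630275204) (by unfold m6; decide +kernel) (by unfold m6; decide +kernel)

theorem r1_eq : m8 5206196425566454273 = blk 1 !![0, 1; 1, 0] := by decide +kernel
theorem r2_eq : m8 9224533189991596545 = blk 1 !![1, 1; 0, 1] := by decide +kernel
theorem x1_eq : m8 9241406295427526707 = blk (m6 34629763855) 1 := by decide +kernel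
theorem x2_eq : m8 9241421624165794320 = blk (m6 34630275204) 1 := by decide +kernel

theorem pq : m8 9531903864555700737 * m8 8569081144236007338 = m8 15690116580038893482 := by decide +kernel
theorem pq2 : m8 15690116580038893482 * m8 15690116580038893482 = m8 9144407217853388718 := by decide +kernel
theorem rr : m8 5206196425566454273 * m8 9224533189991596545 = m8 865852283681505793 := by decide +kernel
theorem rr2 : m8 865852283681505793 * m8 865852283681505793 = m8 5245602922296771073 := by decide +kernel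
theorem tt2 : m8 5245602922296771073 * m8 5245602922296771073 = m8 865852283681505793 := by decide +kernel
theorem tt3 : m8 5245602922296771073 * m8 865852283681505793 = 1 := by decide +kernel
theorem tt1 : m8 5245602922296771073 ≠ 1 := by decide +kernel
theorem sr1 : m8 9144407217853388718 * m8 5206196425566454273 = m8 9241406295427526707 * m8 9144407217853388718 := by
  decide +kernel
theorem sr2 : m8 9144407217853388718 * m8 9224533189991596545 = m8 9241421624165794320 * m8 9144407217853388718 := by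
  decide +kernel

/-- the matrix of an isometry -/
def mt (g : isometryGroup (ZMod 2) Q8) : Matrix I8 I8 (ZMod 2) := ((g : GL I8 (ZMod 2)) : Matrix I8 I8 (ZMod 2))

theorem mt_mul (g h : isometryGroup (ZMod 2) Q8) : mt (g * h) = mt g * mt h := rfl

theorem mt_inj {g h : isometryGroup (ZMod 2) Q8} (e : mt g = mt h) : g = h := Subtype.ext (Units.ext e)

theorem inv_mkI {ι : Type} [Fintype ι] [DecidableEq ι] (Q : (ι → ZMod 2) → ZMod 2) (M : Matrix ι ι (ZMod 2))
    (h : M * M = 1) (hQ : ∀ v, Q (M *ᵥ v) = Q v) : (mkI Q M h hQ)⁻¹ = mkI Q M h hQ := rfl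

/-- the conjugating element -/
def s8 : isometryGroup (ZMod 2) Q8 := ⁅pp, qq⁆

theorem mt_s8 : mt s8 = m8 9144407217853388718 := by
  rw [← pq2, ← pq]
  have h : s8 = pp * qq * pp * qq := rfl
  rw [h, mt_mul, mt_mul, mt_mul, Matrix.mul_assoc (mt pp * mt qq)]
  rfl

/-- the element of order 3 -/
def t8 : isometryGroup (ZMod 2) Q8 := ⁅r1, r2⁆

theorem mt_t8 : mt t8 = m8 5245602922296771073 := by
  rw [← rr2, ← rr]
  have h : t8 = r1 * r2 * r1 * r2 := rfl
  rw [h, mt_mul, mt_mul, mt_mul, Matrix.mul_assoc (mt r1 * mt r2)]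
  rfl

theorem conj_r1 : s8 * r1 * s8⁻¹ = Phi rho1 := by
  rw [mul_inv_eq_iff_eq_mul]
  apply mt_inj
  rw [mt_mul, mt_mul, mt_s8]
  have h1 : mt r1 = m8 5206196425566454273 := rfl
  have h2 : mt (Phi rho1) = m8 9241406295427526707 := by rw [x1_eq]; rfl
  rw [h1, h2, sr1]

theorem conj_r2 : s8 * r2 * s8⁻¹ = Phi rho2 := by
  rw [mul_inv_eq_iff_eq_mul]
  apply mt_inj
  rw [mt_mul, mt_mul, mt_s8]
  have h1 : mt r2 = m8 9224533189991596545 := rfl
  have h2 : mt (Phi rho2) = m8 9241421624165794320 := by rw [x2_eq]; rfl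
  rw [h1, h2, sr2]

theorem comm_r (g : isometryGroup (ZMod 2) Q6) : Commute r1 (Phi g) ∧ Commute r2 (Phi g) := by
  have h0 : ∀ g, mt (Phi g) = blk ((g : GL J6' (ZMod 2)) : Matrix J6' J6' (ZMod 2)) 1 := fun g => rfl
  constructor
  · apply mt_inj
    have h1 : mt r1 = blk 1 !![0, 1; 1, 0] := r1_eq
    rw [mt_mul, mt_mul, h0, h1, blk_mul, blk_mul, mul_one, mul_one, one_mul, one_mul]
  · apply mt_inj
    have h1 : mt r2 = blk 1 !![1, 1; 0, 1] := r2_eq
    rw [mt_mul, mt_mul, h0, h1, blk_mul, blk_mul, mul_one, mul_one, one_mul, one_mul]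

theorem comm_t8 (g : isometryGroup (ZMod 2) Q6) : Commute t8 (Phi g) := by
  obtain ⟨h1, h2⟩ := comm_r g
  unfold t8
  rw [commutatorElement_def]
  exact ((h1.mul_left h2).mul_left h1.inv_left).mul_left h2.inv_left

theorem orderOf_t8 : orderOf t8 = 3 := by
  refine orderOf_eq_prime ?_ ?_
  · apply mt_inj
    rw [pow_succ, pow_two, mul_assoc, mt_mul, mt_mul, mt_t8, tt2, tt3]
    rfl
  · intro h
    apply tt1
    rw [← mt_t8, h]
    rfl

theorem conj_t8 : s8 * t8 * s8⁻¹ = Phi ⁅rho1, rho2⁆ := by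
  rw [map_commutatorElement, ← conj_r1, ← conj_r2]
  unfold t8
  simp only [commutatorElement_def]
  group

theorem card_pom8 : Nat.card (POmega (ZMod 2) Q8) = 174182400 := by
  have h := Cfsg.Agent.S0293.result (F := ZMod 2) (q := 2) (ZMod.card 2) 4 le_rfl
  norm_num [Finset.prod_range_succ] at h
  exact h

/-- **`Ω⁺₈(2)`, elements** -/
theorem omega8_elt {a : Omega (ZMod 2) Q8} (ha : orderOf a = 3) (h : RC (MulAut.conj a)) : False := by
  have hp : Fact (Nat.Prime 3) := ⟨Nat.prime_three⟩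
  have hmap : ∀ g ∈ Omega (ZMod 2) Q6, Phi g ∈ Omega (ZMod 2) Q8 := by
    intro g hg
    have h1 : (Omega (ZMod 2) Q6).map Phi ≤ Omega (ZMod 2) Q8 := by
      unfold Omega
      rw [commutator_def, Subgroup.map_commutator]
      exact Subgroup.commutator_mono le_top le_top
    exact h1 ⟨g, hg, rfl⟩
  let f : Omega (ZMod 2) Q6 →* Omega (ZMod 2) Q8 :=
    (Phi.comp (Omega (ZMod 2) Q6).subtype).codRestrict _ fun g => hmap g g.2
  have hf : Function.Injective f := by
    intro g g' e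
    exact Subtype.ext (Phi_injective (congrArg Subtype.val e))
  have hcm : ∀ {G : Type} [Group G] (x y : G), ⁅x, y⁆ ∈ commutator G := fun x y =>
    Subgroup.commutator_mem_commutator (mem_top x) (mem_top y)
  obtain ⟨t, htv⟩ : ∃ t : Omega (ZMod 2) Q8, (t : isometryGroup (ZMod 2) Q8) = t8 := ⟨⟨t8, hcm r1 r2⟩, rfl⟩
  obtain ⟨s, hsv⟩ : ∃ s : Omega (ZMod 2) Q8, (s : isometryGroup (ZMod 2) Q8) = s8 := ⟨⟨s8, hcm pp qq⟩, rfl⟩
  have ht : orderOf t = 3 := by rw [← Subgroup.orderOf_coe, htv, orderOf_t8]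
  have hst : s * t * s⁻¹ = f ⟨⁅rho1, rho2⁆, hcm rho1 rho2⟩ := Subtype.ext (by
    rw [Subgroup.coe_mul, Subgroup.coe_mul, Subgroup.coe_inv, htv, hsv]
    exact conj_t8)
  have hstM : s * t * s⁻¹ ∈ f.range := by rw [hst]; exact ⟨_, rfl⟩
  have hcM : Nat.card f.range = 25920 := by
    rw [← Nat.card_congr (MonoidHom.ofInjective hf).toEquiv]
    exact Cfsg.Agent.LargeExtra.Cards.card_omega_minus_six
  have hrad := rad_range f hf rad_omega
  have hne : ∃ m₀ ∈ f.range, (s * t * s⁻¹) * m₀ ≠ m₀ * (s * t * s⁻¹) := by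
    by_contra hcon
    push Not at hcon
    have h1 : (center f.range : Subgroup f.range) ≤ solvableRadical f.range :=
      le_rad inferInstance (Group.isSolvable_of_comm fun a b => Subtype.ext (mem_center_iff.1 b.2 a))
    rw [hrad] at h1
    have h2 : (⟨s * t * s⁻¹, hstM⟩ : f.range) ∈ center f.range := by
      rw [mem_center_iff]
      intro m
      exact Subtype.ext (hcon m m.2).symm
    have h3 := h1 h2
    rw [mem_bot] at h3
    have h4 : s * t * s⁻¹ = 1 := congrArg Subtype.val h3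
    have h5 : t = 1 := by
      have h6 : s * t = s := mul_inv_eq_one.1 h4
      exact mul_eq_left.1 h6
    rw [h5, orderOf_one] at ht
    omega
  obtain ⟨m₀, hm₀, hne⟩ := hne
  refine false_of_prod (p := 3) (M := f.range) (t := t) (N := 2240) (s := s) (m₀ := m₀) ?_ hrad ht ?_ ?_
    (by norm_num) ?_ hm₀ hne ha h
  · intro h1
    have h3 := hcM
    rw [h1, card_top, Cfsg.Agent.LargeExtra.Cards.card_omega_plus_eight] at h3
    omega
  · rintro _ ⟨g, rfl⟩
    refine Subtype.ext ?_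
    rw [Subgroup.coe_mul, Subgroup.coe_mul, htv]
    exact comm_t8 g
  · rw [hcM, Cfsg.Agent.LargeExtra.Cards.card_omega_plus_eight]
  · intro m hm
    exact mul_mem (mul_mem hstM hm) (inv_mem hstM)

/-- **`Ω⁺₈(2)`, inner automorphisms** -/
theorem o8 {F : Type*} [Field F] [Fintype F] (hF : Fintype.card F = 2) {a : POmega F (quadFormPlus 4 F)}
    (ha : orderOf a = 3) (h : RC (MulAut.conj a)) : False := by
  have h0 : Fintype.card F = Fintype.card (ZMod 2) := by rw [hF, ZMod.card]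
  obtain ⟨σ⟩ : Nonempty (F ≃+* ZMod 2) := ⟨FiniteField.ringEquivOfCardEq h0⟩
  obtain ⟨e1⟩ := Cfsg.Agent.UGT.U2.Rec.Congr.nonempty_POmega (ι := I8) σ (Q := quadFormPlus 4 F) (Q' := Q8)
    (fun v => by simp [quadFormPlus, map_sum])
  let e2 : Omega (ZMod 2) Q8 ≃* POmega (ZMod 2) Q8 :=
    equivOfSurj (QuotientGroup.mk' (center (Omega (ZMod 2) Q8))) (QuotientGroup.mk'_surjective _)
      (by rw [card_pom8]; exact Cfsg.Agent.LargeExtra.Cards.card_omega_plus_eight)
  let e := e1.trans e2.symm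
  have : Finite (POmega F (quadFormPlus 4 F)) := Finite.of_equiv _ e.symm.toEquiv
  have h1 := h.tr e
  have h3 : tr e (MulAut.conj a) = MulAut.conj (e a) := by
    ext l
    rw [tr_apply]
    simp
  rw [h3] at h1
  refine omega8_elt ?_ h1
  rw [← ha]
  exact orderOf_injective e.toMonoidHom e.injective a

end Cfsg.Agent.H826.AASmall
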