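import Cfsg.Agent.H826.AASmall.Om
import Cfsg.Agent.StandardComponent.SpTwoAut
import Cfsg.Agent.S0245

/-!
# `Sp₆(2)` (helper826)

`Ω⁻₆(2)` is a subgroup of index 56.
-/

set_option autoImplicit false

namespace Cfsg.Agent.H826.AASmall

open Subgroup Cfsg Matrix Cfsg.Agent.H459.Rad Cfsg.Agent.H460.AA

abbrev I6 : Type := (Fin 2 ⊕ Fin 2) ⊕ Fin 2

/-- the coordinates -/
def e6 : I6 ≃ Fin 3 ⊕ Fin 3 where
  toFun := Sum.elim (Sum.elim (fun i => .inl i.castSucc) (fun i => .inr i.castSucc)) ![.inl 2, .inr 2]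
  invFun := Sum.elim ![.inl (.inl 0), .inl (.inl 1), .inr 0] ![.inl (.inr 0), .inl (.inr 1), .inr 1]
  left_inv := by unfold Function.LeftInverse; decide
  right_inv := by unfold Function.RightInverse Function.LeftInverse; decide

/-- the polar form -/
def J6 : Matrix I6 I6 (ZMod 2) := (J (Fin 3) (ZMod 2)).submatrix e6 e6

theorem polar (v w : I6 → ZMod 2) : v ⬝ᵥ (J6 *ᵥ w) = Q6 (v + w) - Q6 v - Q6 w := by
  revert v w
  decide +kernel

theorem isom_J (A : isometryGroup (ZMod 2) Q6) :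
    ((A : GL I6 (ZMod 2)) : Matrix I6 I6 (ZMod 2))ᵀ * J6 * ((A : GL I6 (ZMod 2)) : Matrix I6 I6 (ZMod 2)) = J6 := by
  set B := ((A : GL I6 (ZMod 2)) : Matrix I6 I6 (ZMod 2)) with hB
  have hA : ∀ v, Q6 (B *ᵥ v) = Q6 v := fun v => A.2 v v
  have h1 : ∀ v w, (B *ᵥ v) ⬝ᵥ (J6 *ᵥ (B *ᵥ w)) = v ⬝ᵥ (J6 *ᵥ w) := by
    intro v w
    rw [polar, polar, ← mulVec_add, hA, hA, hA]
  ext i j
  have h2 := h1 (Pi.single i 1) (Pi.single j 1)
  have h3 : ∀ M : Matrix I6 I6 (ZMod 2), (Pi.single i (1 : ZMod 2) : I6 → ZMod 2) ⬝ᵥ (M *ᵥ Pi.single j 1) = M i j := by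
    intro M
    rw [single_dotProduct, one_mul, mulVec_single, MulOpposite.op_one, one_smul, col_apply]
  rw [h3, ← vecMul_transpose, ← dotProduct_mulVec, mulVec_mulVec, mulVec_mulVec, h3] at h2
  exact h2

/-- `Ω⁻₆(2) → Sp₆(2)` -/
def toSp : isometryGroup (ZMod 2) Q6 →* symplecticGroup (Fin 3) (ZMod 2) where
  toFun A := ⟨reindexAlgEquiv (ZMod 2) (ZMod 2) e6 ((A : GL I6 (ZMod 2)) : Matrix I6 I6 (ZMod 2)), by
    rw [SymplecticGroup.mem_iff']
    have h1 := congrArg (reindexAlgEquiv (ZMod 2) (ZMod 2) e6) (isom_J A)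
    rw [map_mul, map_mul] at h1
    have h2 : reindexAlgEquiv (ZMod 2) (ZMod 2) e6 J6 = J (Fin 3) (ZMod 2) := by
      ext i j
      simp [J6]
    rw [h2] at h1
    exact h1⟩
  map_one' := Subtype.ext (by simp)
  map_mul' A B := Subtype.ext (by simp)

theorem toSp_injective : Function.Injective toSp := by
  intro A B h
  have h1 := congrArg Subtype.val h
  exact Subtype.ext (Units.ext ((reindexAlgEquiv (ZMod 2) (ZMod 2) e6).injective h1))

theorem card_sp : Nat.card (symplecticGroup (Fin 3) (ZMod 2)) = 1451520 := by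
  rw [Cfsg.Agent.S0245.result (F := ZMod 2) (q := 2) (ZMod.card 2) 3]
  decide

/-- **`Sp₆(2)`, elements** -/
theorem sp_elt {a : symplecticGroup (Fin 3) (ZMod 2)} (ha : orderOf a = 3) (h : RC (MulAut.conj a)) : False := by
  have : Fact (Nat.Prime 3) := ⟨Nat.prime_three⟩
  let f : Omega (ZMod 2) Q6 →* symplecticGroup (Fin 3) (ZMod 2) := toSp.comp (Omega (ZMod 2) Q6).subtype
  have hf : Function.Injective f := toSp_injective.comp Subtype.val_injective
  have hc : Nat.card f.range = 25920 := by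
    rw [← Nat.card_congr (MonoidHom.ofInjective hf).toEquiv]
    exact Cfsg.Agent.LargeExtra.Cards.card_omega_minus_six
  have hi : f.range.index = 56 := by
    have h1 := f.range.card_mul_index
    rw [hc, card_sp] at h1
    omega
  refine false_of_index (p := 3) (H := f.range) ?_ (by rw [hi]; norm_num) ?_ ha h
  · intro h1
    rw [h1, index_top] at hi
    omega
  · rw [rad_range f hf rad_omega, card_bot]
    norm_num

/-- **`Sp₆(2)`** -/
theorem sp6 {F : Type*} [Field F] [Fintype F] (hF : Fintype.card F = 2) (x : MulAut (PSp 3 F)) (hx : orderOf x = 3)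
    (h : RC x) : False := by
  obtain ⟨e⟩ := Cfsg.Agent.StandardComponent.SpTwoAut.exists_equiv hF
  have : Finite (PSp 3 F) := Finite.of_equiv _ e.symm.toEquiv
  have h1 := h.tr e
  obtain ⟨a, ha⟩ := Cfsg.Agent.StandardComponent.SpTwoAut.inner (tr e x)
  rw [ha] at h1
  refine sp_elt ?_ h1
  have h2 : orderOf a = orderOf (MulAut.conj a) :=
    (orderOf_injective _ (conj_injective Cfsg.Agent.StandardComponent.SpTwoAut.center_eq_bot) a).symm
  rw [h2, ← ha, orderOf_tr, hx]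

end Cfsg.Agent.H826.AASmall
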