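import Cfsg.Agent.H826.AASmall.Gen

/-!
# `³D₄(2)`, abstract argument (helper826)

`Six T a b c d e f` : six elements centralising `T` with the commutator relations of the (long) root elements of type `A₂`
in characteristic two (`a, b` opposite, `c, d` opposite, `e, f` opposite).
`main` : no automorphism of order 3 with `RC` normalising a subgroup `H ≥ N(U)` with `|H : N(U)| = 3` and no `N(U')`.
-/

set_option autoImplicit false

namespace Cfsg.Agent.H826.AASmall

open Subgroup Cfsg Cfsg.Agent.H459.Rad Cfsg.Agent.H460.AA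
open scoped commutatorElement Pointwise

variable {K : Type*} [Group K]

/-- the relations -/
structure Six (T : Subgroup K) (a b c d e f : K) : Prop where
  ce : ∀ g ∈ ({a, b, c, d, e, f} : Set K), ∀ t ∈ T, g * t = t * g
  a2 : a * a = 1
  b2 : b * b = 1
  ab : (a * b) ^ 3 = 1
  ne : a * b ≠ 1
  ac : ⁅a, c⁆ = e
  bc : ⁅b, c⁆ = 1
  ed : ⁅e, d⁆ = a
  eb : ⁅e, b⁆ = c
  af : ⁅a, f⁆ = d
  bd : ⁅b, d⁆ = f
  cf : ⁅c, f⁆ = b

variable {T : Subgroup K} {a b c d e f : K}

/-- a solvable subgroup normalised by the six elements does not contain `a b` -/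
theorem Six.not_mem (S : Six T a b c d e f) (R : Subgroup K) (hR : Group.IsSolvable R)
    (hn : ∀ g ∈ ({a, b, c, d, e, f} : Set K), ∀ r ∈ R, g * r * g⁻¹ ∈ R) : a * b ∉ R := by
  intro hab
  have hca : ∀ r ∈ R, ∀ g ∈ ({a, b, c, d, e, f} : Set K), ⁅r, g⁆ ∈ R := by
    intro r hr g hg
    rw [commutatorElement_def]
    have e1 : r * g * r⁻¹ * g⁻¹ = r * (g * r⁻¹ * g⁻¹) := by group
    rw [e1]
    exact mul_mem hr (hn g hg _ (inv_mem hr))
  -- `e = ⁅a, c⁆ = ⁅(a b) b, c⁆`
  have he : e ∈ R := by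
    have h1 : ⁅(a * b) * b, c⁆ = (a * b) * ⁅b, c⁆ * (a * b)⁻¹ * ⁅a * b, c⁆ := by
      simp only [commutatorElement_def]; group
    have h2 : a * b * b = a := by rw [mul_assoc, S.b2, mul_one]
    rw [h2, S.ac, S.bc, mul_one, mul_inv_cancel, one_mul] at h1
    rw [h1]
    exact hca _ hab c (by simp)
  have ha : a ∈ R := by rw [← S.ed]; exact hca e he d (by simp)
  have hc : c ∈ R := by rw [← S.eb]; exact hca e he b (by simp)
  have hb : b ∈ R := by
    have h1 : b = a⁻¹ * (a * b) := by group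
    rw [h1]; exact mul_mem (inv_mem ha) hab
  have hd : d ∈ R := by rw [← S.af]; exact hca a ha f (by simp)
  have hf : f ∈ R := by rw [← S.bd]; exact hca b hb d (by simp)
  set D : Subgroup K := closure {a, b, c, d, e, f} with hD
  have hDR : D ≤ R := by
    rw [hD, closure_le]
    rintro g (rfl | rfl | rfl | rfl | rfl | rfl) <;> assumption
  have hmem : ∀ g ∈ ({a, b, c, d, e, f} : Set K), g ∈ D := fun g hg => subset_closure hg
  have hperf : D ≤ ⁅D, D⁆ := by
    conv_lhs => rw [hD]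
    rw [closure_le]
    rintro g (rfl | rfl | rfl | rfl | rfl | rfl)
    · exact S.ed ▸ commutator_mem_commutator (hmem e (by simp)) (hmem d (by simp))
    · exact S.cf ▸ commutator_mem_commutator (hmem c (by simp)) (hmem f (by simp))
    · exact S.eb ▸ commutator_mem_commutator (hmem e (by simp)) (hmem b (by simp))
    · exact S.af ▸ commutator_mem_commutator (hmem a (by simp)) (hmem f (by simp))
    · exact S.ac ▸ commutator_mem_commutator (hmem a (by simp)) (hmem c (by simp))
    · exact S.bd ▸ commutator_mem_commutator (hmem b (by simp)) (hmem d (by simp))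
  have hDs : Group.IsSolvable D := Cfsg.Agent.SignalizersComponents.ComponentExists.isSolvable_of_le hDR hR
  have hD1 : D = ⊥ := by
    by_contra hne
    have : Nontrivial D := (nontrivial_iff_ne_bot D).2 hne
    have h1 : commutator D < ⊤ := Group.IsSolvable.commutator_lt_top_of_nontrivial D
    apply h1.ne
    rw [eq_top_iff]
    intro z _
    have h2 : (z : K) ∈ ⁅D, D⁆ := hperf z.2
    have h3 : (commutator D).map D.subtype = ⁅D, D⁆ := by
      rw [_root_.commutator_def, map_commutator, ← MonoidHom.range_eq_map, range_subtype]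
    rw [← h3] at h2
    obtain ⟨w, hw, hwz⟩ := h2
    have : w = z := Subtype.ext hwz
    rwa [← this]
  have ha1 : a = 1 := by
    have := hmem a (by simp)
    rwa [hD1, mem_bot] at this
  have hb1 : b = 1 := by
    have := hmem b (by simp)
    rwa [hD1, mem_bot] at this
  exact S.ne (by rw [ha1, hb1, one_mul])

/-- in a group of order not divisible by 9 a normalising element of order 3 lies in `D` as soon as `3 ∣ |D|` -/
theorem mem_of_nine [Finite K] {H D : Subgroup K} (h9 : ¬ 9 ∣ Nat.card H) (hDH : D ≤ H) {g : K} (hgH : g ∈ H)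
    (hg : ∀ r ∈ D, g * r * g⁻¹ ∈ D) (hg3 : g ^ 3 = 1) (h3 : 3 ∣ Nat.card D) : g ∈ D := by
  by_contra hgD
  have hg1 : g ≠ 1 := fun h => hgD (h ▸ D.one_mem)
  have ho : orderOf g = 3 := by
    have : Fact (Nat.Prime 3) := ⟨Nat.prime_three⟩
    exact orderOf_eq_prime hg3 hg1
  have hgN : g ∈ normalizer (D : Set K) := by
    have h4 : D.map (MulAut.conj g).toMonoidHom = D := by
      apply Subgroup.eq_of_le_of_card_ge
      · rintro _ ⟨k, hk, rfl⟩
        exact hg k hk
      · exact (Nat.card_congr (D.equivMapOfInjective _ (MulAut.conj g).injective).toEquiv).le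
    rw [mem_normalizer_iff]
    intro k
    refine ⟨hg k, fun hk => ?_⟩
    rw [← h4] at hk
    obtain ⟨l, hl, h5⟩ := hk
    have h6 : l = k := (MulAut.conj g).injective h5
    rw [← h6]; exact hl
  -- the subgroup `D ⟨g⟩`
  let Z : Subgroup K := zpowers g
  have hdis : Disjoint D Z := by
    rw [disjoint_iff_inf_le]
    intro z hz
    rw [mem_bot]
    by_contra hz1
    have h1 : orderOf z = 3 := by
      have h2 : orderOf z ∣ 3 := by
        have := orderOf_dvd_natCard (⟨z, hz.2⟩ : zpowers g)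
        rwa [Subgroup.orderOf_mk, Nat.card_zpowers, ho] at this
      rcases (Nat.dvd_prime Nat.prime_three).1 h2 with h3 | h3
      · exact absurd (orderOf_eq_one_iff.1 h3) hz1
      · exact h3
    have h2 : zpowers z = zpowers g := by
      apply Subgroup.eq_of_le_of_card_ge
      · rw [zpowers_le]; exact hz.2
      · rw [Nat.card_zpowers, Nat.card_zpowers, ho, h1]
    exact hgD ((zpowers_le.2 hz.1) (h2 ▸ mem_zpowers g))
  have hZN : Z ≤ normalizer (D : Set K) := by rw [zpowers_le]; exact hgN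
  have hcard : Nat.card (D ⊔ Z : Subgroup K) = Nat.card D * 3 := by
    have h1 : ((D ⊔ Z : Subgroup K) : Set K) = D * Z := Subgroup.coe_mul_of_right_le_normalizer_left _ _ hZN
    have h2 : Nat.card (D ⊔ Z : Subgroup K) = Nat.card (D × Z) := by
      refine (Nat.card_eq_of_bijective (fun p : D × Z => (⟨p.1 * p.2, ?_⟩ : (D ⊔ Z : Subgroup K))) ⟨?_, ?_⟩).symm
      · exact mul_mem (mem_sup_left p.1.2) (mem_sup_right p.2.2)
      · intro p q h
        exact mul_injective_of_disjoint hdis (congrArg Subtype.val h)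
      · rintro ⟨w, hw⟩
        have h3 : w ∈ ((D ⊔ Z : Subgroup K) : Set K) := hw
        rw [h1, Set.mem_mul] at h3
        obtain ⟨u, hu, z, hz, e⟩ := h3
        exact ⟨⟨⟨u, hu⟩, ⟨z, hz⟩⟩, Subtype.ext e⟩
    rw [h2, Nat.card_prod, Nat.card_zpowers, ho]
  apply h9
  have h1 : (D ⊔ Z : Subgroup K) ≤ H := sup_le hDH (by rw [zpowers_le]; exact hgH)
  have h2 := card_dvd_of_le h1
  rw [hcard] at h2
  obtain ⟨m, hm⟩ := h3
  rw [hm] at h2
  exact (Dvd.intro m (by ring)).trans h2

/-- restriction of an automorphism -/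
noncomputable def restr [Finite K] (x : MulAut K) (H : Subgroup K) (h : ∀ m ∈ H, x m ∈ H) : MulAut H :=
  MulEquiv.ofBijective ((x.toMonoidHom.comp H.subtype).codRestrict H fun m => h m m.2)
    (Finite.injective_iff_bijective.1 fun _ _ e => Subtype.ext (x.injective (congrArg Subtype.val e)))

theorem restr_apply [Finite K] (x : MulAut K) (H : Subgroup K) (h : ∀ m ∈ H, x m ∈ H) (m : H) :
    ((restr x H h m : H) : K) = x m := rfl

theorem restr_pow [Finite K] (x : MulAut K) (H : Subgroup K) (h : ∀ m ∈ H, x m ∈ H) (hx : x ^ 3 = 1) :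
    restr x H h ^ 3 = 1 := by
  ext m
  have h1 : x (x (x (m : K))) = m := by
    have := DFunLike.congr_fun hx (m : K)
    exact this
  exact h1

theorem perm_three' : ∀ A r t : Equiv.Perm (Fin 3), (A * A * A = 1 ∧ A ≠ 1) ∧ (r * r * r = 1 ∧ r ≠ 1) ∧
    t * r * t⁻¹ = r⁻¹ → (t⁻¹ * (A * t * A⁻¹)) * (t⁻¹ * (A * t * A⁻¹)) * (t⁻¹ * (A * t * A⁻¹)) = 1 ∧
      t⁻¹ * (A * t * A⁻¹) ≠ 1 := by
  decide +kernel

theorem perm_three {A r t : Equiv.Perm (Fin 3)} (h1 : A ^ 3 = 1) (h2 : A ≠ 1) (h3 : r ^ 3 = 1) (h4 : r ≠ 1)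
    (h5 : t * r * t⁻¹ = r⁻¹) : (t⁻¹ * (A * t * A⁻¹)) ^ 3 = 1 ∧ t⁻¹ * (A * t * A⁻¹) ≠ 1 := by
  have hc : ∀ z : Equiv.Perm (Fin 3), z ^ 3 = z * z * z := fun z => by rw [pow_succ, pow_two]
  rw [hc] at h1 h3 ⊢
  exact perm_three' A r t ⟨⟨h1, h2⟩, ⟨h3, h4⟩, h5⟩

/-- an automorphism of order 3 fixes a Sylow subgroup if their number is prime to 3 -/
theorem exists_fix [Finite K] {p : ℕ} [Fact p.Prime] {α : MulAut K} (hα : α ^ 3 = 1) (hn : ¬ 3 ∣ Nat.card (Sylow p K)) :
    ∃ P : Sylow p K, α • P = P := by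
  have : Fact (Nat.Prime 3) := ⟨Nat.prime_three⟩
  have h1 : IsPGroup 3 (zpowers α) := by
    have h2 : orderOf α ∣ 3 ^ 1 := by rw [pow_one]; exact orderOf_dvd_of_pow_eq_one hα
    obtain ⟨k, -, hk⟩ := (Nat.dvd_prime_pow Nat.prime_three).1 h2
    exact IsPGroup.of_card (n := k) (by rw [Nat.card_zpowers, hk])
  obtain ⟨P, hP⟩ := h1.nonempty_fixed_point_of_prime_not_dvd_card (Sylow p K) hn
  exact ⟨P, hP ⟨α, mem_zpowers α⟩⟩

section core

variable [Finite K]

/-- the situation after conjugation: `x` normalises `T` -/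
theorem core (S : Six T a b c d e f) {x : MulAut K} (hx : x ^ 3 = 1) (hR : RC x) (U : Sylow 2 K) {H : Subgroup K}
    (hle : normalizer ((U : Subgroup K) : Set K) ≤ H) (hidx : (normalizer ((U : Subgroup K) : Set K)).relIndex H = 3)
    (hxH : ∀ h ∈ H, x h ∈ H) (hxU : ¬ ∀ u ∈ (U : Subgroup K), x u ∈ (U : Subgroup K))
    (h3 : ¬ 3 ∣ Nat.card (normalizer ((U : Subgroup K) : Set K))) (hTx : ∀ t ∈ T, x t ∈ T)
    (hC : centralizer (T : Set K) ≠ ⊤) (haH : a ∈ H) (hbH : b ∈ H) : False := by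
  have hUH : (U : Subgroup K) ≤ H := le_normalizer.trans hle
  have hcardH : Nat.card H = Nat.card (normalizer ((U : Subgroup K) : Set K)) * 3 := by
    rw [← hidx, relIndex, ← card_mul_index ((normalizer ((U : Subgroup K) : Set K)).subgroupOf H)]
    congr 1
    exact Nat.card_congr (subgroupOfEquivOfLe hle).toEquiv
  have h9 : ¬ 9 ∣ Nat.card H := by
    rw [hcardH]
    intro h
    exact h3 (Nat.dvd_of_mul_dvd_mul_right (k := 3) (by norm_num) (by simpa using h))
  -- the action on the three Sylow subgroups of `H`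
  let α : MulAut H := restr x H hxH
  let P : Sylow 2 H := U.subtype hUH
  have hP : (P : Subgroup H) = (U : Subgroup K).subgroupOf H := rfl
  have hPn : normalizer (P : Set H) = (normalizer ((U : Subgroup K) : Set K)).subgroupOf H := by
    have hP' : (P : Set H) = (((U : Subgroup K).subgroupOf H : Subgroup H) : Set H) := rfl
    rw [hP']
    ext h
    rw [mem_subgroupOf, mem_normalizer_iff, mem_normalizer_iff]
    constructor
    · intro h1 k
      constructor
      · intro hk
        have := (h1 ⟨k, hUH hk⟩).1 (mem_subgroupOf.2 hk)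
        exact mem_subgroupOf.1 this
      · intro hk
        have hkH : k ∈ H := by
          have := H.mul_mem (H.mul_mem (H.inv_mem h.2) (hUH hk)) h.2
          have e1 : (h : K)⁻¹ * (h * k * (h : K)⁻¹) * h = k := by group
          rwa [e1] at this
        exact mem_subgroupOf.1 ((h1 ⟨k, hkH⟩).2 (mem_subgroupOf.2 hk))
    · intro h1 k
      exact h1 k
  have hcS : Nat.card (Sylow 2 H) = 3 := by
    rw [Sylow.card_eq_index_normalizer P, hPn]
    exact hidx
  let ε : Sylow 2 H ≃ Fin 3 := Finite.equivFinOfCardEq hcS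
  let Ψ : MulAut H →* Equiv.Perm (Fin 3) :=
    (ε.permCongrHom.toMonoidHom).comp (MulAction.toPermHom (MulAut H) (Sylow 2 H))
  have hΨ : ∀ β : MulAut H, Ψ β = 1 → β • P = P := by
    intro β h
    have h1 : MulAction.toPermHom (MulAut H) (Sylow 2 H) β = 1 := ε.permCongrHom.injective (by rw [map_one]; exact h)
    have h2 := DFunLike.congr_fun h1 P
    exact h2
  have hsm : ∀ (β : MulAut H), β • P = P → ∀ u ∈ (P : Subgroup H), β u ∈ (P : Subgroup H) := by
    intro β h u hu
    have h1 : β • u ∈ ((β • P : Sylow 2 H) : Subgroup H) := by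
      rw [Sylow.pointwise_smul_def]
      exact Subgroup.smul_mem_pointwise_smul u β _ hu
    rwa [h] at h1
  have hα3 : Ψ α ^ 3 = 1 := by rw [← map_pow, restr_pow x H hxH hx, map_one]
  have hα1 : Ψ α ≠ 1 := by
    intro h
    apply hxU
    intro u hu
    have h1 := hsm α (hΨ α h) ⟨u, hUH hu⟩ (mem_subgroupOf.2 hu)
    exact mem_subgroupOf.1 h1
  let aH : H := ⟨a, haH⟩
  let bH : H := ⟨b, hbH⟩
  have hab3 : (aH * bH) ^ 3 = 1 := Subtype.ext S.ab
  have hr3 : Ψ (MulAut.conj (aH * bH)) ^ 3 = 1 := by rw [← map_pow, ← map_pow, hab3, map_one, map_one]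
  have hr1 : Ψ (MulAut.conj (aH * bH)) ≠ 1 := by
    intro h
    have h1 : (aH * bH) • P = P := by rw [Sylow.smul_def]; exact hΨ _ h
    rw [Sylow.smul_eq_iff_mem_normalizer] at h1
    have h2 : a * b ∈ normalizer ((U : Subgroup K) : Set K) := by
      have h4 : aH * bH ∈ normalizer (P : Set H) := h1
      rw [hPn] at h4
      exact mem_subgroupOf.1 h4
    have h4 : orderOf (a * b) = 3 := by
      have : Fact (Nat.Prime 3) := ⟨Nat.prime_three⟩
      exact orderOf_eq_prime S.ab S.ne
    apply h3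
    rw [← h4]
    have := orderOf_dvd_natCard (⟨a * b, h2⟩ : normalizer ((U : Subgroup K) : Set K))
    rwa [Subgroup.orderOf_mk] at this
  have hrt : Ψ (MulAut.conj aH) * Ψ (MulAut.conj (aH * bH)) * (Ψ (MulAut.conj aH))⁻¹ =
      (Ψ (MulAut.conj (aH * bH)))⁻¹ := by
    rw [← map_inv, ← map_inv, ← map_inv, ← map_inv, ← map_mul, ← map_mul, ← map_mul, ← map_mul]
    congr 2
    apply Subtype.ext
    change a * (a * b) * a⁻¹ = (a * b)⁻¹
    have ha : a⁻¹ = a := inv_eq_of_mul_eq_one_left S.a2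
    have hb : b⁻¹ = b := inv_eq_of_mul_eq_one_left S.b2
    rw [mul_inv_rev, ha, hb, ← mul_assoc, S.a2, one_mul]
  obtain ⟨hy3, hy1⟩ := perm_three hα3 hα1 hr3 hr1 hrt
  set yH : H := aH⁻¹ * α aH with hyH
  have hyΨ : Ψ (MulAut.conj yH) = (Ψ (MulAut.conj aH))⁻¹ * (Ψ α * Ψ (MulAut.conj aH) * (Ψ α)⁻¹) := by
    have e1 : MulAut.conj yH = (MulAut.conj aH)⁻¹ * (α * MulAut.conj aH * α⁻¹) := by
      ext k
      simp [hyH, mul_assoc]
    rw [e1, map_mul, map_mul, map_mul, map_inv, map_inv]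
  rw [← hyΨ] at hy3 hy1
  have hoy : 3 ∣ orderOf yH := by
    have : Fact (Nat.Prime 3) := ⟨Nat.prime_three⟩
    have h1 : orderOf (Ψ (MulAut.conj yH)) = 3 := orderOf_eq_prime hy3 hy1
    rw [← h1]
    exact (orderOf_map_dvd Ψ _).trans (orderOf_map_dvd MulAut.conj _)
  -- the centraliser of `T`
  set C : Subgroup K := centralizer (T : Set K) with hCdef
  have hxC : ∀ m ∈ C, x m ∈ C := by
    intro m hm
    have hTe : T.map x.toMonoidHom = T := by
      apply Subgroup.eq_of_le_of_card_ge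
      · rintro _ ⟨k, hk, rfl⟩
        exact hTx k hk
      · exact (Nat.card_congr (T.equivMapOfInjective _ x.injective).toEquiv).le
    rw [hCdef, mem_centralizer_iff] at hm ⊢
    intro t ht
    have ht' : t ∈ T.map x.toMonoidHom := by rw [hTe]; exact ht
    obtain ⟨s, hs, rfl⟩ := ht'
    have h1 := congrArg x (hm s hs)
    rw [map_mul, map_mul] at h1
    exact h1
  have hmemC : ∀ g ∈ ({a, b, c, d, e, f} : Set K), g ∈ C := by
    intro g hg
    rw [hCdef, mem_centralizer_iff]
    intro t ht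
    exact (S.ce g hg t ht).symm
  have hyR : (yH : K) ∈ radIn C := hR C hC hxC a (hmemC a (by simp))
  -- `a b` lies in the radical
  refine S.not_mem (radIn C) (radIn_solvable C) (fun g hg r hr => radIn_conj_mem (hmemC g hg) hr) ?_
  have h1 : a * b ∈ radIn C ⊓ H := by
    refine mem_of_nine h9 inf_le_right (H.mul_mem haH hbH) ?_ S.ab ?_
    · intro r hr
      refine ⟨radIn_conj_mem (mul_mem (hmemC a (by simp)) (hmemC b (by simp))) hr.1, ?_⟩
      exact H.mul_mem (H.mul_mem (H.mul_mem haH hbH) hr.2) (H.inv_mem (H.mul_mem haH hbH))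
    · have h2 := orderOf_dvd_natCard (⟨(yH : K), ⟨hyR, yH.2⟩⟩ : (radIn C ⊓ H : Subgroup K))
      rw [← Subgroup.orderOf_coe] at h2
      have h4 : orderOf (yH : K) = orderOf yH := Subgroup.orderOf_coe yH
      rw [← h4] at hoy
      exact hoy.trans h2
  exact h1.1

/-- **Abstract theorem** -/
theorem main (S : Six T a b c d e f) {x : MulAut K} (hx : x ^ 3 = 1) (hR : RC x) (U : Sylow 2 K) {H : Subgroup K}
    (hle : normalizer ((U : Subgroup K) : Set K) ≤ H) (hidx : (normalizer ((U : Subgroup K) : Set K)).relIndex H = 3)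
    (hxH : ∀ h ∈ H, x h ∈ H) (hno : ∀ V : Sylow 2 K, ¬ ∀ u ∈ (V : Subgroup K), x u ∈ (V : Subgroup K))
    (h3 : ¬ 3 ∣ Nat.card (normalizer ((U : Subgroup K) : Set K))) (hTH : T ≤ H) (hT : Nat.card T = 7)
    (h49 : ¬ 49 ∣ Nat.card (normalizer ((U : Subgroup K) : Set K)))
    (hC : centralizer (T : Set K) ≠ ⊤) (haH : a ∈ H) (hbH : b ∈ H) : False := by
  have hcardH : Nat.card H = Nat.card (normalizer ((U : Subgroup K) : Set K)) * 3 := by
    rw [← hidx, relIndex, ← card_mul_index ((normalizer ((U : Subgroup K) : Set K)).subgroupOf H)]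
    congr 1
    exact Nat.card_congr (subgroupOfEquivOfLe hle).toEquiv
  have h9 : ¬ 9 ∣ Nat.card H := by
    rw [hcardH]
    intro h
    exact h3 (Nat.dvd_of_mul_dvd_mul_right (k := 3) (by norm_num) (by simpa using h))
  have h49H : ¬ 49 ∣ Nat.card H := by
    rw [hcardH]
    intro h
    exact h49 ((Nat.Coprime.dvd_mul_right (by norm_num)).1 h)
  have h7 : Fact (Nat.Prime 7) := ⟨by norm_num⟩
  -- `T` is a Sylow 7-subgroup of `H`
  have hTp : IsPGroup 7 (T.subgroupOf H) := by
    apply IsPGroup.of_card (n := 1)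
    rw [Nat.card_congr (subgroupOfEquivOfLe hTH).toEquiv, hT, pow_one]
  obtain ⟨Q, hQ⟩ := hTp.exists_le_sylow
  have hcQ : Nat.card Q = 7 := by
    obtain ⟨n, hn⟩ := IsPGroup.iff_card.1 Q.2
    have h1 : 7 ∣ Nat.card Q := by
      have := card_dvd_of_le hQ
      rwa [Nat.card_congr (subgroupOfEquivOfLe hTH).toEquiv, hT] at this
    have h2 : Nat.card Q ∣ Nat.card H := card_subgroup_dvd_card _
    rcases Nat.lt_or_ge n 2 with hn2 | hn2
    · interval_cases n
      · rw [hn] at h1; norm_num at h1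
      · rw [hn, pow_one]
    · exfalso
      apply h49H
      have h4 : (49 : ℕ) ∣ 7 ^ n := by
        have : (7 : ℕ) ^ 2 ∣ 7 ^ n := pow_dvd_pow 7 hn2
        simpa using this
      exact (h4.trans (hn ▸ dvd_rfl)).trans h2
  have hQT : (Q : Subgroup H) = T.subgroupOf H := by
    refine (Subgroup.eq_of_le_of_card_ge hQ ?_).symm
    rw [Nat.card_congr (subgroupOfEquivOfLe hTH).toEquiv, hT]
    exact hcQ.le
  -- the number of Sylow 7-subgroups of `H`
  have hn : ¬ 3 ∣ Nat.card (Sylow 7 H) := by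
    rw [Sylow.card_eq_index_normalizer Q]
    intro h
    have h1 : (⟨a * b, H.mul_mem haH hbH⟩ : H) ∈ normalizer (Q : Set H) := by
      have hQ' : (Q : Set H) = ((T.subgroupOf H : Subgroup H) : Set H) := by rw [← hQT]; rfl
      rw [hQ', mem_normalizer_iff]
      intro k
      have hcomm : ∀ t ∈ T, (a * b) * t * (a * b)⁻¹ = t := by
        intro t ht
        have h1 := S.ce a (by simp) t ht
        have h2 := S.ce b (by simp) t ht
        rw [mul_inv_eq_iff_eq_mul]
        calc a * b * t = a * (b * t) := by group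
          _ = a * t * b := by rw [h2]; group
          _ = t * (a * b) := by rw [h1]; group
      constructor
      · intro hk
        have hk' : (k : K) ∈ T := mem_subgroupOf.1 hk
        show (a * b) * (k : K) * (a * b)⁻¹ ∈ T
        rw [hcomm _ hk']; exact hk'
      · intro hk
        have hk' : (a * b) * (k : K) * (a * b)⁻¹ ∈ T := hk
        have h4 : (k : K) ∈ T := by
          have h5 := hcomm _ hk'
          have h6 : (k : K) = (a * b) * (k : K) * (a * b)⁻¹ := by
            have h7 : (a * b) * ((a * b) * (k : K) * (a * b)⁻¹) * (a * b)⁻¹ = (a * b) * (k : K) * (a * b)⁻¹ := h5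
            have h8 := mul_right_cancel h7
            have h9 := mul_left_cancel h8
            exact h9.symm
          rw [h6]; exact hk'
        exact h4
    have h2 : 3 ∣ Nat.card (normalizer (Q : Set H)) := by
      have h4 : orderOf (a * b) = 3 := by
        have : Fact (Nat.Prime 3) := ⟨Nat.prime_three⟩
        exact orderOf_eq_prime S.ab S.ne
      have h5 := orderOf_dvd_natCard (⟨_, h1⟩ : normalizer (Q : Set H))
      rw [← Subgroup.orderOf_coe, ← Subgroup.orderOf_coe] at h5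
      have h6 : orderOf (((⟨_, h1⟩ : normalizer (Q : Set H)) : H) : K) = 3 := h4
      rwa [h6] at h5
    apply h9
    have h4 := card_mul_index (normalizer (Q : Set H))
    rw [← h4]
    exact (mul_dvd_mul h2 h : 3 * 3 ∣ _)
  obtain ⟨P, hP⟩ := exists_fix (p := 7) (restr_pow x H hxH hx) hn
  obtain ⟨h, hh⟩ := MulAction.exists_smul_eq H Q P
  have hPm : ∀ k : H, k ∈ (P : Subgroup H) ↔ ((h : K)⁻¹ * (k : K) * (h : K)) ∈ T := by
    intro k
    rw [← hh, Sylow.smul_def, Sylow.pointwise_smul_def, Subgroup.mem_pointwise_smul_iff_inv_smul_mem, hQT,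
      mem_subgroupOf]
    have : ((MulAut.conj h)⁻¹ • k : H) = h⁻¹ * k * h := by
      rw [← map_inv]
      change h⁻¹ * k * h⁻¹⁻¹ = _
      rw [inv_inv]
    rw [this]
    rfl
  have hPx : ∀ k : H, k ∈ (P : Subgroup H) → restr x H hxH k ∈ (P : Subgroup H) := by
    intro k hk
    have h1 : restr x H hxH • k ∈ ((restr x H hxH • P : Sylow 7 H) : Subgroup H) := by
      rw [Sylow.pointwise_smul_def]
      exact Subgroup.smul_mem_pointwise_smul k _ _ hk
    rwa [hP] at h1
  -- the conjugate automorphism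
  set y : MulAut K := tr (MulAut.conj (h : K)⁻¹) x with hy
  have hya : ∀ k, y k = (h : K)⁻¹ * x ((h : K) * k * (h : K)⁻¹) * (h : K) := by
    intro k
    rw [hy, tr_apply]
    have h1 : (MulAut.conj (h : K)⁻¹).symm k = (h : K) * k * (h : K)⁻¹ := by
      rw [MulEquiv.symm_apply_eq, MulAut.conj_apply, inv_inv]
      group
    rw [h1]
    simp
  have hy3 : y ^ 3 = 1 := by
    have h1 : orderOf y = orderOf x := orderOf_tr _ x
    exact orderOf_dvd_iff_pow_eq_one.1 (h1 ▸ orderOf_dvd_of_pow_eq_one hx)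
  refine core S hy3 (hR.tr _) U hle hidx ?_ ?_ h3 ?_ hC haH hbH
  · intro k hk
    rw [hya]
    exact H.mul_mem (H.mul_mem (H.inv_mem h.2) (hxH _ (H.mul_mem (H.mul_mem h.2 hk) (H.inv_mem h.2)))) h.2
  · intro hU
    apply hno ((h : K) • U)
    intro v hv
    have hm : ∀ v : K, v ∈ (((h : K) • U : Sylow 2 K) : Subgroup K) ↔ ((h : K)⁻¹ * v * (h : K)) ∈ (U : Subgroup K) := by
      intro v
      rw [Sylow.smul_def, Sylow.pointwise_smul_def, Subgroup.mem_pointwise_smul_iff_inv_smul_mem]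
      have : ((MulAut.conj (h : K))⁻¹ • v : K) = (h : K)⁻¹ * v * (h : K) := by
        rw [← map_inv]
        change (h : K)⁻¹ * v * (h : K)⁻¹⁻¹ = _
        rw [inv_inv]
      rw [this]
    rw [hm] at hv ⊢
    have h1 := hU _ hv
    rw [hya] at h1
    have h2 : (h : K) * ((h : K)⁻¹ * v * (h : K)) * (h : K)⁻¹ = v := by group
    rwa [h2] at h1
  · intro t ht
    rw [hya]
    have htH : (h : K) * t * (h : K)⁻¹ ∈ H := H.mul_mem (H.mul_mem h.2 (hTH ht)) (H.inv_mem h.2)
    have h1 : (⟨_, htH⟩ : H) ∈ (P : Subgroup H) := by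
      rw [hPm]
      have : (h : K)⁻¹ * ((h : K) * t * (h : K)⁻¹) * (h : K) = t := by group
      show (h : K)⁻¹ * ((h : K) * t * (h : K)⁻¹) * (h : K) ∈ T
      rw [this]; exact ht
    exact (hPm _).1 (hPx _ h1)

end core

end Cfsg.Agent.H826.AASmall
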