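import Cfsg.Agent.H460.AADef

/-!
# The small groups of the `AA`-problem, general lemmas (helper826, for S3833, S3834, S3840)

* `exists_conj_mem` : an element of order `p` has a conjugate in every subgroup of index prime to `p`;
* `false_of_prod` : `M × ⟨t⟩ ≤ K` of index prime to `p`, `M` without solvable normal subgroup, `orderOf t = p`, and a conjugate
  of `t` normalising but not centralising `M`: no element of order `p` has `RC`.
-/

set_option autoImplicit false

namespace Cfsg.Agent.H826.AASmall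

open Subgroup Cfsg Cfsg.Agent.H459.Rad Cfsg.Agent.H460.AA

variable {K : Type*} [Group K] [Finite K]

omit [Finite K] in
/-- an element of order `p` has a conjugate in every subgroup of index prime to `p` -/
theorem exists_conj_mem {p : ℕ} [hp : Fact p.Prime] {H : Subgroup K} (hi : ¬ p ∣ H.index) {a : K}
    (ha : orderOf a = p) : ∃ g : K, g * a * g⁻¹ ∈ H := by
  have h1 : IsPGroup p (zpowers a) := IsPGroup.of_card (n := 1) (by rw [Nat.card_zpowers, ha, pow_one])
  have h2 : (MulAction.fixedPoints (zpowers a) (K ⧸ H)).Nonempty := by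
    refine h1.nonempty_fixed_point_of_prime_not_dvd_card (α := K ⧸ H) ?_
    exact hi
  obtain ⟨y, hy⟩ := h2
  obtain ⟨g, rfl⟩ := QuotientGroup.mk_surjective y
  refine ⟨g⁻¹, ?_⟩
  have h3 := hy ⟨a, mem_zpowers a⟩
  have h4 : ((a * g : K) : K ⧸ H) = (g : K ⧸ H) := h3
  rw [QuotientGroup.eq] at h4
  have h5 := H.inv_mem h4
  rw [inv_inv]
  have e : ((a * g)⁻¹ * g)⁻¹ = g⁻¹ * a * g := by group
  rwa [e] at h5

/-- a normalising element with `RC` centralises a subgroup without solvable normal subgroups -/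
theorem comm_of_norm {a : K} (h : RC (MulAut.conj a)) {M : Subgroup K} (hM : M ≠ ⊤) (hr : solvableRadical M = ⊥)
    (hn : ∀ m ∈ M, a * m * a⁻¹ ∈ M) : ∀ m ∈ M, a * m = m * a := by
  intro m hm
  have h1 := h.eq_of_rad_eq_bot hM (fun m hm => by rw [MulAut.conj_apply]; exact hn m hm) hr hm
  rw [MulAut.conj_apply, mul_inv_eq_iff_eq_mul] at h1
  exact h1

/-- **Main lemma** -/
theorem false_of_prod {p : ℕ} [hp : Fact p.Prime] {M : Subgroup K} (hM : M ≠ ⊤) (hr : solvableRadical M = ⊥)
    {t : K} (ht : orderOf t = p) (hc : ∀ m ∈ M, t * m = m * t) {N : ℕ} (hcard : Nat.card K = p * Nat.card M * N)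
    (hN : ¬ p ∣ N) {s : K} (hs : ∀ m ∈ M, (s * t * s⁻¹) * m * (s * t * s⁻¹)⁻¹ ∈ M) {m₀ : K} (hm₀ : m₀ ∈ M)
    (hne : (s * t * s⁻¹) * m₀ ≠ m₀ * (s * t * s⁻¹)) {a : K} (ha : orderOf a = p) (h : RC (MulAut.conj a)) : False := by
  -- the centre of `M` is trivial
  have hZ : ∀ z ∈ M, (∀ m ∈ M, z * m = m * z) → z = 1 := by
    intro z hz hzm
    have h1 : (center M : Subgroup M) ≤ solvableRadical M :=
      le_rad inferInstance (Group.isSolvable_of_comm fun a b => Subtype.ext (mem_center_iff.1 b.2 a))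
    rw [hr] at h1
    have h2 : (⟨z, hz⟩ : M) ∈ center M := by
      rw [mem_center_iff]
      intro m
      exact Subtype.ext (hzm m m.2).symm
    have h3 := h1 h2
    rw [mem_bot] at h3
    exact congrArg Subtype.val h3
  have hct : ∀ z ∈ zpowers t, ∀ m ∈ M, z * m = m * z := by
    intro z hz m hm
    obtain ⟨i, rfl⟩ := mem_zpowers_iff.1 hz
    exact (Commute.zpow_left (hc m hm : Commute t m) i)
  have hdis : Disjoint M (zpowers t) := by
    rw [disjoint_iff_inf_le]
    intro z hz
    rw [mem_bot]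
    exact hZ z hz.1 (hct z hz.2)
  let f : M × zpowers t →* K := MonoidHom.noncommCoprod M.subtype (zpowers t).subtype fun m z => (hct z z.2 m m.2).symm
  have hfa : ∀ x, f x = x.1 * x.2 := fun x => rfl
  have hf : Function.Injective f := by
    rw [injective_iff_map_eq_one]
    rintro ⟨m, z⟩ h1
    rw [hfa] at h1
    have h2 : (m : K) = (z : K)⁻¹ := eq_inv_of_mul_eq_one_left h1
    have h3 : (m : K) ∈ M ⊓ zpowers t := ⟨m.2, by rw [h2]; exact (zpowers t).inv_mem z.2⟩
    rw [hdis.eq_bot, mem_bot] at h3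
    have h4 : (z : K) = 1 := by rw [h3, one_mul] at h1; exact h1
    exact Prod.ext (Subtype.ext h3) (Subtype.ext h4)
  have hcf : Nat.card f.range = Nat.card M * p := by
    rw [← Nat.card_congr (MonoidHom.ofInjective hf).toEquiv, Nat.card_prod, Nat.card_zpowers, ht]
  have hidx : f.range.index = N := by
    have h1 := f.range.card_mul_index
    rw [hcf, hcard] at h1
    have h2 : 0 < Nat.card M * p := Nat.mul_pos Nat.card_pos hp.out.pos
    refine Nat.eq_of_mul_eq_mul_left h2 ?_
    rw [h1]; ring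
  obtain ⟨g, hg⟩ := exists_conj_mem (K := K) (p := p) (H := f.range) (by rw [hidx]; exact hN) ha
  obtain ⟨⟨m, z⟩, hmz⟩ := hg
  rw [hfa] at hmz
  set b : K := g * a * g⁻¹ with hb
  have hbo : orderOf b = p := by
    rw [← ha]; exact orderOf_injective (MulAut.conj g).toMonoidHom (MulAut.conj g).injective a
  have hbR : RC (MulAut.conj b) := RC_conj h g
  have hbn : ∀ k ∈ M, b * k * b⁻¹ ∈ M := by
    intro k hk
    rw [← hmz]
    have h1 : (m : K) * (z : K) * k * ((m : K) * (z : K))⁻¹ = (m : K) * k * (m : K)⁻¹ := by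
      have h2 := hct z z.2 k hk
      calc (m : K) * (z : K) * k * ((m : K) * (z : K))⁻¹ = (m : K) * ((z : K) * k) * (z : K)⁻¹ * (m : K)⁻¹ := by group
        _ = (m : K) * k * (m : K)⁻¹ := by rw [h2]; group
    rw [h1]
    exact M.mul_mem (M.mul_mem m.2 hk) (M.inv_mem m.2)
  have hbc := comm_of_norm hbR hM hr hbn
  -- `m = 1`
  have hm1 : (m : K) = 1 := by
    refine hZ m m.2 fun k hk => ?_
    have h1 := hbc k hk
    rw [← hmz] at h1
    have h2 := hct z z.2 k hk
    have h3 : (m : K) * k * (z : K) = k * (m : K) * (z : K) := by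
      calc (m : K) * k * (z : K) = (m : K) * ((z : K) * k) := by rw [h2]; group
        _ = k * ((m : K) * (z : K)) := by rw [← h1]; group
        _ = _ := by group
    exact mul_right_cancel h3
  rw [hm1, one_mul] at hmz
  -- `t` is a power of `b`
  have hbz : b ∈ zpowers t := by rw [← hmz]; exact z.2
  have htb : t ∈ zpowers b := by
    have h1 : zpowers b = zpowers t := by
      apply Subgroup.eq_of_le_of_card_ge
      · rw [zpowers_le]; exact hbz
      · rw [Nat.card_zpowers, Nat.card_zpowers, ht, hbo]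
    rw [h1]; exact mem_zpowers t
  -- the conjugate
  have hR := RC_conj hbR s
  have h1 : ∀ k ∈ M, (s * b * s⁻¹) * k * (s * b * s⁻¹)⁻¹ ∈ M := by
    have h2 : s * b * s⁻¹ ∈ zpowers (s * t * s⁻¹) := by
      obtain ⟨i, hi⟩ := mem_zpowers_iff.1 hbz
      refine mem_zpowers_iff.2 ⟨i, ?_⟩
      rw [← hi, conj_zpow]
    -- the set of elements normalising the finite group `M`
    let S : Subgroup K := normalizer (M : Set K)
    have h3 : s * t * s⁻¹ ∈ S := by
      have h4 : M.map (MulAut.conj (s * t * s⁻¹)).toMonoidHom = M := by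
        apply Subgroup.eq_of_le_of_card_ge
        · rintro _ ⟨k, hk, rfl⟩
          exact hs k hk
        · exact (Nat.card_congr (M.equivMapOfInjective _ (MulAut.conj (s * t * s⁻¹)).injective).toEquiv).le
      show s * t * s⁻¹ ∈ normalizer (M : Set K)
      rw [mem_normalizer_iff]
      intro k
      refine ⟨hs k, fun hk => ?_⟩
      rw [← h4] at hk
      obtain ⟨l, hl, h5⟩ := hk
      have h6 : l = k := (MulAut.conj (s * t * s⁻¹)).injective h5
      rw [← h6]; exact hl
    have h5 : s * b * s⁻¹ ∈ S := (zpowers_le.2 h3) h2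
    intro k hk
    exact (mem_normalizer_iff.1 h5 k).1 hk
  have h2 := comm_of_norm hR hM hr h1
  apply hne
  have h3 : s * t * s⁻¹ ∈ zpowers (s * b * s⁻¹) := by
    obtain ⟨i, hi⟩ := mem_zpowers_iff.1 htb
    refine mem_zpowers_iff.2 ⟨i, ?_⟩
    rw [← hi, conj_zpow]
  obtain ⟨i, hi⟩ := mem_zpowers_iff.1 h3
  rw [← hi]
  exact Commute.zpow_left (h2 m₀ hm₀ : Commute (s * b * s⁻¹) m₀) i

end Cfsg.Agent.H826.AASmall
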