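import Cfsg.Agent.H826.AASmall.Gen
import Cfsg.Agent.LargeExtra.Cards
import Cfsg.Agent.S0303
import Cfsg.Agent.S0283
import Cfsg.Agent.S0280
import Cfsg.Agent.S0278

/-!
# `Ω⁻₆(2)` and `SU₄(2)` are simple of order 25920 (helper826)
-/

set_option autoImplicit false

namespace Cfsg.Agent.H826.AASmall

open Subgroup Cfsg Cfsg.Agent.H459.Rad Cfsg.Agent.H460.AA

/-- the form -/
abbrev Q6 : ((Fin 2 ⊕ Fin 2) ⊕ Fin 2 → ZMod 2) → ZMod 2 := quadFormMinus 2 (ZMod 2) 1 1

theorem card_psu4 {F : Type*} [Field F] [Fintype F] (hF : Fintype.card F = 4) : Nat.card (PSU 4 F 2) = 25920 := by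
  have h1 := Cfsg.Agent.S0280.result (q := 2) (F := F) (by rw [hF]; norm_num) 4 (by norm_num)
  norm_num [Finset.prod_range_succ, Nat.even_add_one] at h1
  omega

theorem card_su4 {F : Type*} [Field F] [Fintype F] (hF : Fintype.card F = 4) : Nat.card (SU 4 F 2) = 25920 := by
  have h1 := Cfsg.Agent.S0278.result (q := 2) (F := F) (by rw [hF]; norm_num) 4 (by norm_num)
  norm_num [Finset.prod_range_succ, Nat.even_add_one] at h1
  omega

theorem simple_psu4 {F : Type*} [Field F] [Fintype F] (hF : Fintype.card F = 4) : IsSimpleGroup (PSU 4 F 2) :=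
  Cfsg.Agent.S0283.result (q := 2) (by rw [hF]; norm_num) 4 (by norm_num) (by norm_num)

/-- a surjection between groups of the same finite order is an isomorphism -/
noncomputable def equivOfSurj {G H : Type*} [Group G] [Group H] [Finite G] (f : G →* H) (hf : Function.Surjective f)
    (h : Nat.card G = Nat.card H) : G ≃* H :=
  MulEquiv.ofBijective f ((Nat.bijective_iff_surjective_and_card f).2 ⟨hf, h⟩)

theorem not_solvable_of_card {G : Type*} [Group G] [Finite G] [hs : IsSimpleGroup G] (h : ¬ (Nat.card G).Prime) :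
    ¬ Group.IsSolvable G := by
  intro h1
  apply h
  have h2 : ∀ a b : G, a * b = b * a := (IsSimpleGroup.comm_iff_isSolvable).2 h1
  let _ : CommGroup G := { (inferInstance : Group G) with mul_comm := h2 }
  exact IsSimpleGroup.prime_card

theorem rad_of_card {G : Type*} [Group G] [Finite G] [hs : IsSimpleGroup G] (h : ¬ (Nat.card G).Prime) :
    solvableRadical G = ⊥ := rad_eq_bot_of_simple (not_solvable_of_card h)

theorem su4_equiv {F : Type*} [Field F] [Fintype F] (hF : Fintype.card F = 4) : Nonempty (SU 4 F 2 ≃* PSU 4 F 2) :=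
  ⟨equivOfSurj (QuotientGroup.mk' (center (SU 4 F 2))) (QuotientGroup.mk'_surjective _)
    (by rw [card_su4 hF, card_psu4 hF])⟩

theorem rad_congr {G H : Type*} [Group G] [Group H] [Finite G] [Finite H] (e : G ≃* H) (h : solvableRadical H = ⊥) :
    solvableRadical G = ⊥ := by
  rw [eq_bot_iff]
  intro x hx
  have h1 := map_rad_le (f := e.toMonoidHom) e.surjective hx
  rw [h, mem_bot] at h1
  rw [mem_bot]
  exact e.injective (by rw [map_one]; exact h1)

theorem rad_psu4 {F : Type*} [Field F] [Fintype F] (hF : Fintype.card F = 4) : solvableRadical (PSU 4 F 2) = ⊥ := by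
  have := simple_psu4 hF
  exact rad_of_card (by rw [card_psu4 hF]; norm_num)

theorem rad_su4 {F : Type*} [Field F] [Fintype F] (hF : Fintype.card F = 4) : solvableRadical (SU 4 F 2) = ⊥ := by
  obtain ⟨e⟩ := su4_equiv hF
  exact rad_congr e (rad_psu4 hF)

theorem rad_omega : solvableRadical (Omega (ZMod 2) Q6) = ⊥ := by
  let _ : Fintype (GaloisField 2 2) := Fintype.ofFinite _
  have hF : Fintype.card (GaloisField 2 2) = 4 := by
    rw [← Nat.card_eq_fintype_card, GaloisField.card 2 2 (by norm_num)]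
    norm_num
  obtain ⟨e⟩ := Cfsg.Agent.S0303.result (F := ZMod 2) (K := GaloisField 2 2) (q := 2) (ZMod.card 2) (by rw [hF]; norm_num) 1 1
    Cfsg.Agent.LargeExtra.Cards.aniso
  have h1 : Nat.card (POmega (ZMod 2) Q6) = 25920 := by rw [Nat.card_congr e.toEquiv, card_psu4 hF]
  have e2 : Omega (ZMod 2) Q6 ≃* POmega (ZMod 2) Q6 :=
    equivOfSurj (QuotientGroup.mk' (center (Omega (ZMod 2) Q6))) (QuotientGroup.mk'_surjective _)
      (by rw [h1]; exact Cfsg.Agent.LargeExtra.Cards.card_omega_minus_six)
  exact rad_congr (e2.trans e) (rad_psu4 hF)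

/-- the radical of the range of an injective homomorphism -/
theorem rad_range {G H : Type*} [Group G] [Group H] [Finite G] [Finite H] (f : G →* H) (hf : Function.Injective f)
    (h : solvableRadical G = ⊥) : solvableRadical f.range = ⊥ :=
  rad_congr (MonoidHom.ofInjective hf).symm h

end Cfsg.Agent.H826.AASmall
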