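import Cfsg.Agent.H826.AASmall.Low
import Cfsg.Agent.H826.AASmall.Gen
import Cfsg.Agent.LieClassical.FieldTransfer
import Cfsg.Agent.LieClassical.SympCenter
import Cfsg.Agent.S0814
import Cfsg.Agent.S0245
import Cfsg.Agent.S0246
import Cfsg.Agent.S0270

/-!
# `AA`: `PSp₄(3)`, `p = 3` (helper826, for S3833, S3834, S3840)

An element of order 3 is conjugate to one of the 44 elements of order 3 of an explicit Sylow 3-subgroup; for each of them one
of four explicit elements `g` gives a product `a * g a g⁻¹` of trace 0, which is not a 3-element.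
-/

set_option autoImplicit false

namespace Cfsg.Agent.H826.AASmall.SpFour

open Cfsg Matrix Cfsg.Agent.H459.Rad Cfsg.Agent.H460.AA

abbrev M4 : Type := Matrix (Fin 2 ⊕ Fin 2) (Fin 2 ⊕ Fin 2) (ZMod 3)

/-- unipotent elements -/
def phi (a b c d : ZMod 3) : M4 :=
  fromBlocks !![1, a; 0, 1] !![b - c * a, c; c - d * a, d] 0 !![1, 0; -a, 1]

theorem phi_mem (a b c d : ZMod 3) : phi a b c d ∈ symplecticGroup (Fin 2) (ZMod 3) := by
  rw [SymplecticGroup.mem_iff]
  revert a b c d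
  decide +kernel

theorem phi_mul (a b c d a' b' c' d' : ZMod 3) : phi a b c d * phi a' b' c' d' =
    phi (a + a') (b + b' + 2 * a * c' + a ^ 2 * d') (c + c' + a * d') (d + d') := by
  unfold phi
  rw [fromBlocks_multiply]
  congr 1 <;> ext i j <;> fin_cases i <;> fin_cases j <;> simp <;> ring

/-- the unipotent element -/
def P (a b c d : ZMod 3) : symplecticGroup (Fin 2) (ZMod 3) := ⟨phi a b c d, phi_mem a b c d⟩

theorem P_mul (a b c d a' b' c' d' : ZMod 3) : P a b c d * P a' b' c' d' =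
    P (a + a') (b + b' + 2 * a * c' + a ^ 2 * d') (c + c' + a * d') (d + d') := Subtype.ext (phi_mul ..)

theorem P_zero : P 0 0 0 0 = 1 := Subtype.ext (by decide +kernel)

/-- the Sylow 3-subgroup -/
def U : Subgroup (symplecticGroup (Fin 2) (ZMod 3)) where
  carrier := {A | ∃ a b c d, A = P a b c d}
  one_mem' := ⟨0, 0, 0, 0, P_zero.symm⟩
  mul_mem' := by
    rintro _ _ ⟨a, b, c, d, rfl⟩ ⟨a', b', c', d', rfl⟩
    exact ⟨_, _, _, _, P_mul ..⟩
  inv_mem' := by
    rintro _ ⟨a, b, c, d, rfl⟩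
    refine ⟨-a, -b + 2 * a * c - a ^ 2 * d, -c + a * d, -d, ?_⟩
    rw [inv_eq_iff_mul_eq_one, P_mul, ← P_zero]
    congr 1 <;> ring

theorem P_inj {a b c d a' b' c' d' : ZMod 3} (h : P a b c d = P a' b' c' d') : (a, b, c, d) = (a', b', c', d') := by
  have h1 : phi a b c d = phi a' b' c' d' := congrArg Subtype.val h
  have e1 : a = a' := congrFun (congrFun h1 (.inl 0)) (.inl 1)
  have e3 : c = c' := congrFun (congrFun h1 (.inl 0)) (.inr 1)
  have e4 : d = d' := congrFun (congrFun h1 (.inl 1)) (.inr 1)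
  have e2 : b - c * a = b' - c' * a' := congrFun (congrFun h1 (.inl 0)) (.inr 0)
  subst e1 e3 e4
  have e5 : b = b' := by linear_combination e2
  rw [e5]

theorem card_U : Nat.card U = 81 := by
  let f : ZMod 3 × ZMod 3 × ZMod 3 × ZMod 3 → U := fun x => ⟨P x.1 x.2.1 x.2.2.1 x.2.2.2, _, _, _, _, rfl⟩
  have hf : Function.Bijective f := by
    constructor
    · rintro ⟨a, b, c, d⟩ ⟨a', b', c', d'⟩ h
      exact P_inj (congrArg Subtype.val h)
    · rintro ⟨_, a, b, c, d, rfl⟩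
      exact ⟨(a, b, c, d), rfl⟩
  rw [← Nat.card_congr (Equiv.ofBijective f hf)]
  simp

theorem card_sp : Nat.card (symplecticGroup (Fin 2) (ZMod 3)) = 51840 := by
  rw [Cfsg.Agent.S0245.result (F := ZMod 3) (q := 3) (ZMod.card 3) 2]
  decide

/-- the conjugating elements -/
def gs : Fin 4 → M4 × M4
  | 0 => (fromBlocks !![1, 0; 0, 1] 0 !![1, 0; 0, 0] !![1, 0; 0, 1], fromBlocks !![1, 0; 0, 1] 0 !![2, 0; 0, 0] !![1, 0; 0, 1])
  | 1 => (fromBlocks !![1, 1; 0, 1] 0 !![1, 1; 0, 2] !![1, 0; 2, 1], fromBlocks !![1, 2; 0, 1] 0 !![2, 0; 2, 1] !![1, 0; 1, 1])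
  | 2 => (fromBlocks !![1, 0; 0, 1] 0 !![0, 0; 0, 1] !![1, 0; 0, 1], fromBlocks !![1, 0; 0, 1] 0 !![0, 0; 0, 2] !![1, 0; 0, 1])
  | 3 => (fromBlocks !![1, 0; 0, 1] !![0, 0; 0, 1] !![1, 0; 0, 0] !![1, 0; 0, 1],
      fromBlocks !![1, 0; 0, 1] !![0, 0; 0, 2] !![2, 0; 0, 0] !![1, 0; 0, 1])

theorem gs_mem (i : Fin 4) : (gs i).1 ∈ symplecticGroup (Fin 2) (ZMod 3) := by
  rw [SymplecticGroup.mem_iff]
  revert i
  decide +kernel

theorem gs_inv (i : Fin 4) : (gs i).1 * (gs i).2 = 1 := by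
  revert i
  decide +kernel

theorem check (a b c d : ZMod 3) (h : phi a b c d * phi a b c d * phi a b c d = 1) (h1 : phi a b c d ≠ 1) :
    ∃ i, trace (phi a b c d * ((gs i).1 * phi a b c d * (gs i).2)) = 0 := by
  revert a b c d
  decide +kernel

/-- a 3-element modulo the centre has trace `≠ 0` -/
theorem trace_ne {z : symplecticGroup (Fin 2) (ZMod 3)}
    (h : PE 3 (QuotientGroup.mk z : PSp 2 (ZMod 3))) : trace (z : M4) ≠ 0 := by
  have : Fact (Nat.Prime 3) := ⟨Nat.prime_three⟩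
  obtain ⟨k, hk⟩ := PE.pow_eq_one_iff.1 h
  rw [← QuotientGroup.mk_pow, QuotientGroup.eq_one_iff] at hk
  obtain ⟨c, hc⟩ := (Cfsg.Agent.LieClassical.SympCenter.mem_center_iff 2 _).1 hk
  intro h0
  have hc3 : c ^ 3 ^ k = c := ZMod.pow_card_pow c
  have h2 : (z : M4) ^ 3 ^ k = c • (1 : M4) := hc
  have h3 : ((z : M4) - c • (1 : M4)) ^ 3 ^ k = 0 := by
    have h4 : Commute (z : M4) (c • (1 : M4)) := (Commute.one_right _).smul_right c
    rw [sub_pow_char_pow_of_commute 3 k h4, h2, smul_pow, one_pow, hc3, sub_self]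
  have h4 := Matrix.isNilpotent_trace_of_isNilpotent ⟨_, h3⟩
  rw [trace_sub, h0, zero_sub, trace_smul, trace_one] at h4
  have h5 := h4.eq_zero
  have h6 : c = 0 := by
    have e : ((Fintype.card (Fin 2 ⊕ Fin 2) : ℕ) : ZMod 3) = 1 := by
      have e4 : Fintype.card (Fin 2 ⊕ Fin 2) = 4 := rfl
      rw [e4]; rfl
    rw [e, smul_eq_mul, mul_one, neg_eq_zero] at h5
    exact h5
  rw [h6, zero_smul] at h2
  have h7 : ((z ^ 3 ^ k : symplecticGroup (Fin 2) (ZMod 3)) : M4) = 0 := h2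
  have h8 : ((z ^ 3 ^ k * (z ^ 3 ^ k)⁻¹ : symplecticGroup (Fin 2) (ZMod 3)) : M4) = 1 := by rw [mul_inv_cancel]; rfl
  have h9 : (0 : M4) = 1 := by
    rw [← h8]
    change _ = ((z ^ 3 ^ k : symplecticGroup (Fin 2) (ZMod 3)) : M4) * _
    rw [h7, zero_mul]
  exact zero_ne_one h9

/-- **elements of order 3** -/
theorem elt {a : PSp 2 (ZMod 3)} (ha : orderOf a = 3) : ∃ g : PSp 2 (ZMod 3), ¬ PE 3 (a * (g * a * g⁻¹)) := by
  have : Fact (Nat.Prime 3) := ⟨Nat.prime_three⟩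
  obtain ⟨A, rfl⟩ := QuotientGroup.mk_surjective a
  -- a lift of order 3
  obtain ⟨B, hB, hB3⟩ : ∃ B : symplecticGroup (Fin 2) (ZMod 3), (QuotientGroup.mk B : PSp 2 (ZMod 3)) = QuotientGroup.mk A ∧
      B ^ 3 = 1 := by
    have h1 : (QuotientGroup.mk (A ^ 3) : PSp 2 (ZMod 3)) = 1 := by
      have h0 := pow_orderOf_eq_one (QuotientGroup.mk A : PSp 2 (ZMod 3))
      rw [ha] at h0
      rw [QuotientGroup.mk_pow]
      exact h0
    rw [QuotientGroup.eq_one_iff] at h1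
    refine ⟨A * (A ^ 3)⁻¹, ?_, ?_⟩
    · rw [QuotientGroup.eq]
      have e : (A * (A ^ 3)⁻¹)⁻¹ * A = A ^ 3 := by group
      rw [e]; exact h1
    · have h2 : Nat.card (Subgroup.center (symplecticGroup (Fin 2) (ZMod 3))) = 2 := by
        rw [Cfsg.Agent.S0246.result (F := ZMod 3) (q := 3) (ZMod.card 3) 2 (by norm_num)]
        rfl
      have h3 : (A ^ 3) ^ 2 = 1 := by
        have h4 := pow_card_eq_one' (x := (⟨A ^ 3, h1⟩ : Subgroup.center (symplecticGroup (Fin 2) (ZMod 3))))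
        rw [h2] at h4
        exact congrArg Subtype.val h4
      have e : (A * (A ^ 3)⁻¹) ^ 3 = ((A ^ 3) ^ 2)⁻¹ ^ 1 := by
        group
      rw [e, h3]; simp
  have hB1 : orderOf B = 3 := by
    refine orderOf_eq_prime hB3 ?_
    rintro rfl
    rw [← hB, QuotientGroup.mk_one, orderOf_one] at ha
    omega
  have hidx : U.index = 640 := by
    have h1 := U.card_mul_index
    rw [card_U, card_sp] at h1
    omega
  obtain ⟨g, a, b, c, d, hg⟩ := exists_conj_mem (p := 3) (H := U) (by rw [hidx]; norm_num) hB1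
  have h1 : P a b c d ≠ 1 := by
    rw [← hg]
    intro h2
    have h3 : B = 1 := by
      rw [mul_inv_eq_one] at h2
      exact mul_eq_left.1 h2
    rw [h3, orderOf_one] at hB1
    omega
  have h3 : P a b c d * P a b c d * P a b c d = 1 := by
    rw [← hg]
    have e : g * B * g⁻¹ * (g * B * g⁻¹) * (g * B * g⁻¹) = g * B ^ 3 * g⁻¹ := by
      rw [pow_three]; group
    rw [e, hB3]; group
  obtain ⟨i, hi⟩ := check a b c d (congrArg Subtype.val h3) (fun h => h1 (Subtype.ext h))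
  let s : symplecticGroup (Fin 2) (ZMod 3) := ⟨(gs i).1, gs_mem i⟩
  refine ⟨QuotientGroup.mk (g⁻¹ * s * g), fun hPE => ?_⟩
  have hs : ((s⁻¹ : symplecticGroup (Fin 2) (ZMod 3)) : M4) = (gs i).2 := by
    have h4 : ((s * s⁻¹ : symplecticGroup (Fin 2) (ZMod 3)) : M4) = 1 := by rw [mul_inv_cancel]; rfl
    have h5 : (gs i).1 * ((s⁻¹ : symplecticGroup (Fin 2) (ZMod 3)) : M4) = (gs i).1 * (gs i).2 := by
      rw [gs_inv]; exact h4
    have h6 : (gs i).2 * (gs i).1 = 1 := mul_eq_one_comm.1 (gs_inv i)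
    calc ((s⁻¹ : symplecticGroup (Fin 2) (ZMod 3)) : M4) = (gs i).2 * (gs i).1 * (s⁻¹ : symplecticGroup (Fin 2) (ZMod 3)) := by
          rw [h6, one_mul]
      _ = (gs i).2 * ((gs i).1 * (gs i).2) := by rw [mul_assoc, h5]
      _ = _ := by rw [gs_inv, mul_one]
  have h4 : PE 3 (QuotientGroup.mk (P a b c d * (s * P a b c d * s⁻¹)) : PSp 2 (ZMod 3)) := by
    have h5 := hPE.conj (QuotientGroup.mk g)
    have e : g * (B * (g⁻¹ * s * g * B * (g⁻¹ * s * g)⁻¹)) * g⁻¹ = P a b c d * (s * P a b c d * s⁻¹) := by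
      rw [← hg]; group
    rw [← e]
    rw [← hB] at h5
    exact h5
  exact trace_ne h4 (by
    change trace (phi a b c d * ((gs i).1 * phi a b c d * ((s⁻¹ : symplecticGroup (Fin 2) (ZMod 3)) : M4))) = 0
    rw [hs]; exact hi)

/-- **`PSp₄(3)`, `p = 3`** (`RC` is not needed) -/
theorem own_psp4_of_pa {F : Type*} [Field F] [Fintype F] (hF : Fintype.card F = 3) (x : MulAut (PSp 2 F)) (hx : orderOf x = 3)
    (hP : PA 3 x) : False := by
  have : Fact (Nat.Prime 3) := ⟨Nat.prime_three⟩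
  let f : F ≃+* ZMod 3 := FiniteField.ringEquivOfCardEq (by rw [hF, ZMod.card])
  let e := Cfsg.Agent.LieClassical.FieldTransfer.pspCongr 2 f
  have hP' := PA_tr e hP
  have : IsSimpleGroup (PSp 2 (ZMod 3)) := Cfsg.Agent.S0270.result (F := ZMod 3) 2 le_rfl fun _ => (by rw [ZMod.card])
  have hcard : Nat.card (PSp 2 (ZMod 3)) = 25920 := by
    have h1 := Subgroup.card_eq_card_quotient_mul_card_subgroup (Subgroup.center (symplecticGroup (Fin 2) (ZMod 3)))
    rw [card_sp, Cfsg.Agent.S0246.result (F := ZMod 3) (q := 3) (ZMod.card 3) 2 (by norm_num)] at h1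
    have h2 : Nat.gcd 2 (3 - 1) = 2 := rfl
    rw [h2] at h1
    change Nat.card (symplecticGroup (Fin 2) (ZMod 3) ⧸ Subgroup.center (symplecticGroup (Fin 2) (ZMod 3))) = _
    omega
  have hfin : Finite (PSp 2 (ZMod 3)) := Nat.finite_of_card_ne_zero (by rw [hcard]; norm_num)
  have hna := Cfsg.Agent.H235.AA.Tools.not_comm_of_card (K := PSp 2 (ZMod 3)) (by rw [hcard]; norm_num)
  have hz := Cfsg.Agent.H235.AA.Tools.center_eq_bot hna
  have haut : Nat.card (MulAut (PSp 2 (ZMod 3))) = 2 * Nat.card (PSp 2 (ZMod 3)) := by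
    have h1 := Cfsg.Agent.S0814.result (F := ZMod 3) 3 1 le_rfl (by rw [ZMod.card]; norm_num) 2 le_rfl (by norm_num)
    rw [h1]
    norm_num
  obtain ⟨a, ha⟩ := Low.inner_of_card hz haut 3 (by norm_num) (tr e x) (by rw [orderOf_tr, hx])
  rw [ha] at hP'
  have h2 : orderOf a = orderOf (MulAut.conj a) := (orderOf_injective _ (conj_injective hz) a).symm
  obtain ⟨g, hg⟩ := elt (a := a) (by rw [h2, ← ha, orderOf_tr, hx])
  exact hg (pe_of_PA hz hP' g)

theorem own_psp4 {F : Type*} [Field F] [Fintype F] (hF : Fintype.card F = 3) (x : MulAut (PSp 2 F)) (hx : orderOf x = 3)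
    (_ : RC x) (hP : PA 3 x) : False := own_psp4_of_pa hF x hx hP

end Cfsg.Agent.H826.AASmall.SpFour
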